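import Cfsg.Agent.LThreeU7.Lin
import Cfsg.Agent.LieClassical.HermSiegel
import Cfsg.Agent.H836.Facts
import Cfsg.Agent.H834.WidthAD
import Cfsg.Agent.H834.Bridge
import Cfsg.Agent.H835.SylFive_m3
import Cfsg.Agent.LThreeM.FiTwo
import Cfsg.Agent.Lib.PermNetFast
import Cfsg.Agent.H836.Main
import Cfsg.Agent.FastGrp
import Cfsg.Agent.Prune
set_option linter.all false

section
prune_inst 0x7ffcbdfda9b8bfffdfff7e7fffffdffffbb97fffefdff9cbffec6bff3fff6b1acfc5fbaf0fe890ff4ef7e09410f87b43ff7eeeffea6bdc7ffffd5ff45ffbffdffdf7bd0851969c340fbc2fff63f0778e7f3fffffffffffffffffffffffffffaeffffffffffff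

-- part: H835/HexMain
section
set_option linter.all false
open scoped Cfsg.Agent.FastGrp

-- part: H835/Eig
section
/-!
# Elements of order three of `SU₆(2)`: eigenvectors (helper835)

`Frame A l B` : `B` is an orthonormal basis of eigenvectors of `A` with the eigenvalues `l`.
* `Frame.prod` : the product of the eigenvalues is one;
* `Frame.conj` : two elements with frames with the same eigenvalues are conjugate;
* `exists_frame` : the three types of elements of order three modulo scalars;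
* `frame_std` : every `l` with product one occurs;
* `Frame.iso_pair` etc. : isotropic eigenvectors.
-/

set_option autoImplicit false
set_option linter.unusedSectionVars false

namespace Cfsg.Agent.H835.Eig

open Cfsg Cfsg.Agent.LieClassical.HermBasic Cfsg.Agent.LieClassical.HermSiegel
  Cfsg.Agent.ClassicalGeometry.HermOrtho Matrix Module
open Cfsg.Agent.LThreeU7 (E mem_E two_eq_zero cube_of_ne ne_zero_of_cube)

variable {F : Type*} [Field F] [Fintype F]

/-- `B` is an orthonormal basis of eigenvectors of `A` with the eigenvalues `l`. -/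
structure Frame (A : SU 6 F 2) (l : Fin 6 → F) (B : Fin 6 → (Fin 6 → F)) : Prop where
  on : ∀ i j, hermForm 6 F 2 (B i) (B j) = if i = j then 1 else 0
  eig : ∀ i, act A (B i) = l i • B i

/-- the matrix with the columns `B` -/
def col (B : Fin 6 → (Fin 6 → F)) : Matrix (Fin 6) (Fin 6) F := Matrix.of fun i j => B j i

theorem col_mulVec (B : Fin 6 → (Fin 6 → F)) (x : Fin 6 → F) : (col B).mulVec x = ∑ i, x i • B i := by
  ext i
  simp only [col, Matrix.mulVec, dotProduct, Matrix.of_apply, Finset.sum_apply, Pi.smul_apply, smul_eq_mul]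
  exact Finset.sum_congr rfl fun j _ => mul_comm _ _

theorem col_single (B : Fin 6 → (Fin 6 → F)) (i : Fin 6) : (col B).mulVec (Pi.single i 1) = B i := by
  rw [Matrix.mulVec_single_one]
  rfl

variable (hF : Fintype.card F = 2 ^ 2)

include hF in
theorem expand {B : Fin 6 → (Fin 6 → F)} (hB : ∀ i j, hermForm 6 F 2 (B i) (B j) = if i = j then 1 else 0)
    (v : Fin 6 → F) : v = ∑ i, hermForm 6 F 2 v (B i) • B i :=
  eq_sum_of_orthonormal (⊤ : Submodule F (Fin 6 → F)) (by simp) (fun _ => trivial) hB trivial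

include hF in
theorem col_isUnit {B : Fin 6 → (Fin 6 → F)}
    (hB : ∀ i j, hermForm 6 F 2 (B i) (B j) = if i = j then 1 else 0) :
    (∀ u v, hermForm 6 F 2 ((col B).mulVec u) ((col B).mulVec v) = hermForm 6 F 2 u v) ∧ (col B).det ≠ 0 := by
  have h : ∀ u v, hermForm 6 F 2 ((col B).mulVec u) ((col B).mulVec v) = hermForm 6 F 2 u v := by
    intro u v
    rw [col_mulVec, col_mulVec, herm_sum_right hF]
    simp only [herm_smul_right, herm_sum_smul_left hB]
    rw [herm_def]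
    exact Finset.sum_congr rfl fun j _ => mul_comm _ _
  refine ⟨h, ?_⟩
  have h1 := isUnit_of_isometry hF h
  rw [Matrix.isUnit_iff_isUnit_det] at h1
  exact h1.ne_zero

namespace Frame

include hF in
/-- the product of the eigenvalues is one -/
theorem prod {A : SU 6 F 2} {l : Fin 6 → F} {B : Fin 6 → (Fin 6 → F)} (h : Frame A l B) : ∏ i, l i = 1 := by
  have h1 : (mat A) * col B = col B * Matrix.diagonal l := by
    apply Matrix.ext_of_mulVec_single
    intro i
    rw [← Matrix.mulVec_mulVec, ← Matrix.mulVec_mulVec, col_single]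
    have h2 : (mat A).mulVec (B i) = l i • B i := h.eig i
    rw [h2]
    have h3 : (Matrix.diagonal l).mulVec (Pi.single i 1) = l i • Pi.single i (1 : F) := by
      ext j
      rw [Matrix.mulVec_diagonal, Pi.smul_apply, smul_eq_mul]
      by_cases hij : j = i
      · rw [hij]
      · rw [Pi.single_eq_of_ne hij, mul_zero, mul_zero]
    rw [h3, Matrix.mulVec_smul, col_single]
  have h2 := congrArg Matrix.det h1
  have h3 : (mat A).det = 1 := A.1.2
  rw [Matrix.det_mul, Matrix.det_mul, h3, one_mul, Matrix.det_diagonal] at h2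
  have h4 := (col_isUnit hF h.on).2
  have h5 : (col B).det * (∏ i, l i - 1) = 0 := by rw [mul_sub, ← h2]; ring
  rcases mul_eq_zero.1 h5 with h6 | h6
  · exact absurd h6 h4
  · exact sub_eq_zero.1 h6

include hF in
/-- two elements with frames with the same eigenvalues are conjugate -/
theorem conj {A A' : SU 6 F 2} {l : Fin 6 → F} {B B' : Fin 6 → (Fin 6 → F)} (h : Frame A l B) (h' : Frame A' l B') :
    ∃ g : SU 6 F 2, g * A * g⁻¹ = A' := by
  classical
  obtain ⟨hP, hPd⟩ := col_isUnit hF h.on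
  obtain ⟨hQ, hQd⟩ := col_isUnit hF h'.on
  set t : F := (col B).det * ((col B').det)⁻¹ with ht
  have ht0 : t ≠ 0 := mul_ne_zero hPd (inv_ne_zero hQd)
  have ht3 : t ^ 3 = 1 := cube_of_ne hF ht0
  -- the modified frame
  set B2 : Fin 6 → (Fin 6 → F) := fun i => (if i = 0 then t else 1) • B' i with hB2
  have hon : ∀ i j, hermForm 6 F 2 (B2 i) (B2 j) = if i = j then 1 else 0 := by
    intro i j
    simp only [hB2]
    rw [herm_smul_left, herm_smul_right, h'.on]
    by_cases hij : i = j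
    · subst hij
      rw [if_pos rfl, mul_one]
      by_cases hi : i = 0
      · rw [if_pos hi, ← pow_succ', ht3]
      · rw [if_neg hi, one_pow, mul_one]
    · rw [if_neg hij, mul_zero, mul_zero]
  have hcol : col B2 = col B' * Matrix.diagonal (fun i => if i = 0 then t else 1) := by
    ext i j
    rw [Matrix.mul_diagonal]
    simp only [col, Matrix.of_apply, hB2, Pi.smul_apply, smul_eq_mul]
    exact mul_comm _ _
  have hdet : (col B2).det = (col B).det := by
    rw [hcol, Matrix.det_mul, Matrix.det_diagonal, Finset.prod_ite_eq' Finset.univ (0 : Fin 6) (fun _ => t),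
      if_pos (Finset.mem_univ _), ht]
    field_simp
  obtain ⟨hR, hRd⟩ := col_isUnit hF hon
  have hPu : IsUnit (col B).det := isUnit_iff_ne_zero.2 hPd
  have hinv : ∀ v, (col B).mulVec ((col B)⁻¹.mulVec v) = v := by
    intro v
    rw [Matrix.mulVec_mulVec, Matrix.mul_nonsing_inv _ hPu, Matrix.one_mulVec]
  have hinv' : ∀ v, (col B)⁻¹.mulVec ((col B).mulVec v) = v := by
    intro v
    rw [Matrix.mulVec_mulVec, Matrix.nonsing_inv_mul _ hPu, Matrix.one_mulVec]
  let g : SU 6 F 2 := mkSU (col B2 * (col B)⁻¹) (by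
    rw [Matrix.det_mul, hdet, Matrix.det_nonsing_inv, Ring.mul_inverse_cancel _ hPu]) (by
    intro u v
    rw [← Matrix.mulVec_mulVec, ← Matrix.mulVec_mulVec, hR]
    rw [← hP, hinv, hinv])
  have hg : ∀ i, act g (B i) = B2 i := by
    intro i
    show (col B2 * (col B)⁻¹).mulVec (B i) = B2 i
    rw [← Matrix.mulVec_mulVec]
    conv_lhs => rw [← col_single B i]
    rw [hinv', col_single]
  have hg' : ∀ i, act g⁻¹ (B2 i) = B i := by
    intro i
    rw [← hg i, act_inv_act]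
  refine ⟨g, ext_act fun v => ?_⟩
  have hA' : ∀ i, act A' (B2 i) = l i • B2 i := by
    intro i
    simp only [hB2]
    rw [act_smul, h'.eig, smul_comm]
  clear_value B2
  rw [expand hF hon v, act_sum, act_sum]
  refine Finset.sum_congr rfl fun i _ => ?_
  rw [act_smul, act_smul, act_mul, act_mul, hg', h.eig, act_smul, hg, hA']

end Frame

/-- the eigenvalues of the three types -/
def lam (w : F) (a b : ℕ) (i : Fin 6) : F := if i.val < a then 1 else if i.val < a + b then w else w ^ 2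

include hF in
/-- the orthonormal eigenbases of the three eigenspaces form a frame -/
theorem frame_of_dims {A : SU 6 F 2} {w : F} (hw3 : w ^ 3 = 1) (hw1 : w ≠ 1) {a b c : ℕ}
    (h1 : finrank F (E A 1) = a) (h2 : finrank F (E A w) = b) (h3 : finrank F (E A (w ^ 2)) = c)
    (hA : A ^ 3 = 1) (habc : a + b + c = 6) : ∃ B, Frame A (lam w a b) B := by
  obtain ⟨b1, hb1, ho1⟩ := exists_orthonormal hF (E A 1) (LThreeU7.nondeg hF hA) h1
  obtain ⟨b2, hb2, ho2⟩ := exists_orthonormal hF (E A w) (LThreeU7.nondeg hF hA) h2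
  obtain ⟨b3, hb3, ho3⟩ := exists_orthonormal hF (E A (w ^ 2)) (LThreeU7.nondeg hF hA) h3
  have hw0 := ne_zero_of_cube hw3
  have hww : (w ^ 2) ^ 3 = 1 := by rw [← pow_mul, mul_comm, pow_mul, hw3, one_pow]
  have n1 : w ^ 2 ≠ 1 := by
    intro h
    apply hw1
    have : w ^ 3 = w ^ 2 * w := by ring
    rw [h, one_mul, hw3] at this
    exact this.symm
  have n2 : w ≠ w ^ 2 := by
    intro h
    apply hw1
    have h5 : w * (w - 1) = 0 := by linear_combination -h
    rcases mul_eq_zero.1 h5 with h6 | h6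
    · exact absurd h6 hw0
    · exact sub_eq_zero.1 h6
  let e : Fin a ⊕ (Fin b ⊕ Fin c) ≃ Fin 6 := ((Equiv.sumCongr (Equiv.refl _) finSumFinEquiv).trans
    finSumFinEquiv).trans (finCongr (by omega))
  let B0 : Fin a ⊕ (Fin b ⊕ Fin c) → (Fin 6 → F) := Sum.elim b1 (Sum.elim b2 b3)
  have hB0 : ∀ x y, hermForm 6 F 2 (B0 x) (B0 y) = if x = y then 1 else 0 := by
    rintro (x | x | x) (y | y | y)
    · simpa [B0] using ho1 x y
    · simpa [B0] using LThreeU7.orth hw3 hw1.symm (hb1 x) (hb2 y)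
    · simpa [B0] using LThreeU7.orth hww n1.symm (hb1 x) (hb3 y)
    · simpa [B0] using LThreeU7.orth (one_pow 3) hw1 (hb2 x) (hb1 y)
    · simpa [B0] using ho2 x y
    · simpa [B0] using LThreeU7.orth hww n2 (hb2 x) (hb3 y)
    · simpa [B0] using LThreeU7.orth (one_pow 3) n1 (hb3 x) (hb1 y)
    · simpa [B0] using LThreeU7.orth hw3 n2.symm (hb3 x) (hb2 y)
    · simpa [B0] using ho3 x y
  refine ⟨fun i => B0 (e.symm i), ⟨fun i j => ?_, fun i => ?_⟩⟩
  · rw [hB0]
    by_cases hij : i = j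
    · rw [if_pos hij, if_pos (by rw [hij])]
    · rw [if_neg hij, if_neg (fun h => hij (e.symm.injective h))]
  · obtain ⟨x, rfl⟩ := e.surjective i
    rw [e.symm_apply_apply]
    rcases x with x | x | x
    · have h4 : lam w a b (e (Sum.inl x)) = 1 := by
        have h5 : (e (Sum.inl x)).val = x.val := by simp [e]
        rw [lam, h5, if_pos x.2]
      rw [h4]
      exact hb1 x
    · have h4 : lam w a b (e (Sum.inr (Sum.inl x))) = w := by
        have h5 : (e (Sum.inr (Sum.inl x))).val = a + x.val := by simp [e]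
        rw [lam, h5, if_neg (by omega), if_pos (by omega)]
      rw [h4]
      exact hb2 x
    · have h4 : lam w a b (e (Sum.inr (Sum.inr x))) = w ^ 2 := by
        have h5 : (e (Sum.inr (Sum.inr x))).val = a + (b + x.val) := by simp [e]
        rw [lam, h5, if_neg (by omega), if_neg (by omega)]
      rw [h4]
      exact hb3 x

include hF in
theorem dims_sum {A : SU 6 F 2} {w : F} (hw3 : w ^ 3 = 1) (hw1 : w ≠ 1) (hw : w ^ 2 + w + 1 = 0) (hA : A ^ 3 = 1) :
    finrank F (E A 1) + finrank F (E A w) + finrank F (E A (w ^ 2)) = 6 := by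
  have hww : (w ^ 2) ^ 3 = 1 := by rw [← pow_mul, mul_comm, pow_mul, hw3, one_pow]
  have n1 : w ^ 2 ≠ 1 := by
    intro h
    apply hw1
    have : w ^ 3 = w ^ 2 * w := by ring
    rw [h, one_mul, hw3] at this
    exact this.symm
  have n2 : w ≠ w ^ 2 := by
    intro h
    apply hw1
    have h5 : w * (w - 1) = 0 := by linear_combination -h
    rcases mul_eq_zero.1 h5 with h6 | h6
    · exact absurd h6 (ne_zero_of_cube hw3)
    · exact sub_eq_zero.1 h6
  have hnd := LThreeU7.nondeg hF hA (a := (1 : F))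
  have h1 := finrank_hermPerp_of_nondeg hF (E A 1) hnd
  -- the orthogonal complement
  have h2 : (hermPerp 2 (E A 1 : Set (Fin 6 → F)) : Submodule F (Fin 6 → F)) = E A w ⊔ E A (w ^ 2) := by
    apply le_antisymm
    · intro v hv
      have h3 := LThreeU7.pj_sum hF (x := A) hw3 hw v
      have h4 : LThreeU7.pj A 1 v = 0 := by
        refine hnd _ (LThreeU7.pj_mem hA (one_pow 3) v) fun u hu => ?_
        have h5 := hv u hu
        rw [← h3, herm_add_left, herm_add_left,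
          LThreeU7.orth (one_pow 3) hw1 (LThreeU7.pj_mem hA hw3 v) hu,
          LThreeU7.orth (one_pow 3) n1 (LThreeU7.pj_mem hA hww v) hu, add_zero, add_zero] at h5
        exact h5
      rw [h4, zero_add] at h3
      rw [← h3]
      exact Submodule.add_mem_sup (LThreeU7.pj_mem hA hw3 v) (LThreeU7.pj_mem hA hww v)
    · apply sup_le
      · intro v hv u hu
        exact LThreeU7.orth (one_pow 3) hw1 hv hu
      · intro v hv u hu
        exact LThreeU7.orth (one_pow 3) n1 hv hu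
  have h3 : Disjoint (E A w) (E A (w ^ 2)) := by
    rw [Submodule.disjoint_def]
    intro v hv hv'
    refine LThreeU7.nondeg hF hA v hv fun u hu => ?_
    exact LThreeU7.orth hw3 n2.symm hv' hu
  have h4 := Submodule.finrank_sup_add_finrank_inf_eq (E A w) (E A (w ^ 2))
  rw [h3.eq_bot, finrank_bot, add_zero] at h4
  rw [h2, h4] at h1
  omega

/-- the multiplication by a cube root of unity -/
def sc (w : F) (hw3 : w ^ 3 = 1) (A : SU 6 F 2) : SU 6 F 2 :=
  mkSU (w • mat A) (by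
    have h6 : w ^ 6 = 1 := by
      calc w ^ 6 = (w ^ 3) ^ 2 := by ring
        _ = 1 := by rw [hw3, one_pow]
    rw [Matrix.det_smul, Fintype.card_fin, h6, one_mul]
    exact A.1.2) (by
    intro u v
    rw [Matrix.smul_mulVec, Matrix.smul_mulVec, herm_smul_left, herm_smul_right]
    have h1 := herm_act A u v
    have h2 : hermForm 6 F 2 ((mat A).mulVec u) ((mat A).mulVec v) = hermForm 6 F 2 u v := h1
    rw [h2]
    linear_combination (hermForm 6 F 2 u v) * hw3)

theorem act_sc {w : F} (hw3 : w ^ 3 = 1) (A : SU 6 F 2) (v : Fin 6 → F) : act (sc w hw3 A) v = w • act A v := by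
  show (w • mat A).mulVec v = w • (mat A).mulVec v
  rw [Matrix.smul_mulVec]

theorem sc_cube {w : F} (hw3 : w ^ 3 = 1) {A : SU 6 F 2} (hA : A ^ 3 = 1) : (sc w hw3 A) ^ 3 = 1 := by
  apply ext_act
  intro v
  have h1 := LThreeU7.act_cube hA v
  rw [pow_succ, pow_two, act_mul, act_mul, act_sc, act_sc, act_sc, act_smul, act_smul, act_smul, act_one, h1,
    smul_smul, smul_smul]
  have : w * w * w = 1 := by rw [← hw3]; ring
  rw [this, one_smul]

theorem E_sc {w : F} (hw3 : w ^ 3 = 1) (A : SU 6 F 2) (x y : F) (hxy : w * y = x) : E (sc w hw3 A) x = E A y := by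
  ext v
  rw [mem_E, mem_E, act_sc, ← hxy, mul_smul]
  constructor
  · intro h
    have h1 := congrArg (fun u => w ^ 2 • u) h
    simp only [smul_smul] at h1
    have h2 : w ^ 2 * w = 1 := by rw [← hw3]; ring
    rw [h2, one_smul, ← mul_assoc, h2, one_mul] at h1
    exact h1
  · intro h
    rw [h]

theorem prod_lam (w : F) (a b : ℕ) (h : a + b ≤ 6) : ∏ i, lam w a b i = w ^ (b + 2 * (6 - a - b)) := by
  have ha6 : a ≤ 6 := by omega
  have hb6 : b ≤ 6 := by omega
  rw [Fin.prod_univ_six]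
  interval_cases a <;> interval_cases b <;> first | (exfalso; omega) | (simp [lam]; try ring)

theorem cases_abc {a b c : ℕ} (hsum : a + b + c = 6) (hdet : (b + 2 * c) % 3 = 0) :
    a = 6 ∨ b = 6 ∨ c = 6 ∨ (a = 4 ∧ b = 1 ∧ c = 1) ∨ (c = 4 ∧ a = 1 ∧ b = 1) ∨ (b = 4 ∧ c = 1 ∧ a = 1) ∨
      (a = 3 ∧ b = 3 ∧ c = 0) ∨ (c = 3 ∧ a = 3 ∧ b = 0) ∨ (b = 3 ∧ c = 3 ∧ a = 0) ∨ (a = 2 ∧ b = 2 ∧ c = 2) := by
  have ha6 : a ≤ 6 := by omega
  have hb6 : b ≤ 6 := by omega
  obtain rfl : c = 6 - a - b := by omega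
  interval_cases a <;> interval_cases b <;> (solve | decide | omega)

include hF in
/-- **the types of the elements of order three modulo scalars** -/
theorem exists_frame {A : SU 6 F 2} {w : F} (hw3 : w ^ 3 = 1) (hw1 : w ≠ 1) (hw : w ^ 2 + w + 1 = 0) (hA : A ^ 3 = 1) :
    (∃ c : F, ∀ v, act A v = c • v) ∨ ∃ (k : F) (hk : k ^ 3 = 1) (B : Fin 6 → (Fin 6 → F)),
      Frame (sc k hk A) (lam w 4 1) B ∨ Frame (sc k hk A) (lam w 3 3) B ∨ Frame (sc k hk A) (lam w 2 2) B := by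
  have hww : (w ^ 2) ^ 3 = 1 := by rw [← pow_mul, mul_comm, pow_mul, hw3, one_pow]
  have n1 : w ^ 2 ≠ 1 := by
    intro h
    apply hw1
    have : w ^ 3 = w ^ 2 * w := by ring
    rw [h, one_mul, hw3] at this
    exact this.symm
  have hsum := dims_sum hF hw3 hw1 hw hA
  obtain ⟨a, ha⟩ : ∃ a, finrank F (E A 1) = a := ⟨_, rfl⟩
  obtain ⟨b, hb⟩ : ∃ b, finrank F (E A w) = b := ⟨_, rfl⟩
  obtain ⟨c, hc⟩ : ∃ c, finrank F (E A (w ^ 2)) = c := ⟨_, rfl⟩
  rw [ha, hb, hc] at hsum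
  -- the determinant
  obtain ⟨B, hB⟩ := frame_of_dims hF hw3 hw1 ha hb hc hA hsum
  have hprod := hB.prod hF
  -- a full eigenspace
  have full : ∀ x : F, finrank F (E A x) = 6 → ∃ c : F, ∀ v, act A v = c • v := by
    intro x hx
    refine ⟨x, fun v => ?_⟩
    have h1 : E A x = ⊤ := Submodule.eq_top_of_finrank_eq (by rw [hx, finrank_fin_fun])
    have h2 : v ∈ E A x := by rw [h1]; trivial
    exact h2
  -- the shifts
  have hw0 := ne_zero_of_cube hw3
  have s0 : ∃ (k : F) (hk : k ^ 3 = 1), finrank F (E (sc k hk A) 1) = a ∧ finrank F (E (sc k hk A) w) = b ∧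
      finrank F (E (sc k hk A) (w ^ 2)) = c :=
    ⟨1, one_pow 3, by rw [E_sc (one_pow 3) A _ _ (one_mul _), ha], by rw [E_sc (one_pow 3) A _ _ (one_mul _), hb],
      by rw [E_sc (one_pow 3) A _ _ (one_mul _), hc]⟩
  have s1 : ∃ (k : F) (hk : k ^ 3 = 1), finrank F (E (sc k hk A) 1) = c ∧ finrank F (E (sc k hk A) w) = a ∧
      finrank F (E (sc k hk A) (w ^ 2)) = b :=
    ⟨w, hw3, by rw [E_sc hw3 A _ (w ^ 2) (by rw [← hw3]; ring), hc], by rw [E_sc hw3 A _ 1 (mul_one _), ha],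
      by rw [E_sc hw3 A _ w (by ring), hb]⟩
  have s2 : ∃ (k : F) (hk : k ^ 3 = 1), finrank F (E (sc k hk A) 1) = b ∧ finrank F (E (sc k hk A) w) = c ∧
      finrank F (E (sc k hk A) (w ^ 2)) = a :=
    ⟨w ^ 2, hww, by rw [E_sc hww A _ w (by rw [← hw3]; ring), hb],
      by rw [E_sc hww A _ (w ^ 2) (by linear_combination w * hw3), hc], by rw [E_sc hww A _ 1 (mul_one _), ha]⟩
  have fin : ∀ {x y z : ℕ}, x + y + z = 6 → (∃ (k : F) (hk : k ^ 3 = 1), finrank F (E (sc k hk A) 1) = x ∧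
      finrank F (E (sc k hk A) w) = y ∧ finrank F (E (sc k hk A) (w ^ 2)) = z) →
      ∃ (k : F) (hk : k ^ 3 = 1) (B : Fin 6 → (Fin 6 → F)), Frame (sc k hk A) (lam w x y) B := by
    rintro x y z hs ⟨k, hk, h1, h2, h3⟩
    obtain ⟨B, hB⟩ := frame_of_dims hF hw3 hw1 h1 h2 h3 (sc_cube hk hA) hs
    exact ⟨k, hk, B, hB⟩
  have g411 : (∃ (k : F) (hk : k ^ 3 = 1) (B : Fin 6 → (Fin 6 → F)), Frame (sc k hk A) (lam w 4 1) B) →
      ∃ (k : F) (hk : k ^ 3 = 1) (B : Fin 6 → (Fin 6 → F)),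
      Frame (sc k hk A) (lam w 4 1) B ∨ Frame (sc k hk A) (lam w 3 3) B ∨ Frame (sc k hk A) (lam w 2 2) B :=
    fun ⟨k, hk, B, h⟩ => ⟨k, hk, B, Or.inl h⟩
  have g330 : (∃ (k : F) (hk : k ^ 3 = 1) (B : Fin 6 → (Fin 6 → F)), Frame (sc k hk A) (lam w 3 3) B) →
      ∃ (k : F) (hk : k ^ 3 = 1) (B : Fin 6 → (Fin 6 → F)),
      Frame (sc k hk A) (lam w 4 1) B ∨ Frame (sc k hk A) (lam w 3 3) B ∨ Frame (sc k hk A) (lam w 2 2) B :=
    fun ⟨k, hk, B, h⟩ => ⟨k, hk, B, Or.inr (Or.inl h)⟩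
  have g222 : (∃ (k : F) (hk : k ^ 3 = 1) (B : Fin 6 → (Fin 6 → F)), Frame (sc k hk A) (lam w 2 2) B) →
      ∃ (k : F) (hk : k ^ 3 = 1) (B : Fin 6 → (Fin 6 → F)),
      Frame (sc k hk A) (lam w 4 1) B ∨ Frame (sc k hk A) (lam w 3 3) B ∨ Frame (sc k hk A) (lam w 2 2) B :=
    fun ⟨k, hk, B, h⟩ => ⟨k, hk, B, Or.inr (Or.inr h)⟩
  -- the power of `w`
  have hpw : ∀ m : ℕ, w ^ m = 1 → m % 3 = 0 := by
    intro m hm
    have h1 : orderOf w = 3 := by
      have : Fact (Nat.Prime 3) := ⟨Nat.prime_three⟩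
      exact orderOf_eq_prime hw3 hw1
    have h2 := orderOf_dvd_of_pow_eq_one hm
    rw [h1] at h2
    omega
  have hdet : (b + 2 * c) % 3 = 0 := by
    apply hpw
    have hc6 : c = 6 - a - b := by (clear * - hsum; omega)
    rw [hc6, ← prod_lam w a b (by (clear * - hsum; omega)), hprod]
  clear hprod hB
  have hcases := cases_abc hsum hdet
  rcases hcases with h | h | h | ⟨rfl, rfl, rfl⟩ | ⟨rfl, rfl, rfl⟩ | ⟨rfl, rfl, rfl⟩ | ⟨rfl, rfl, rfl⟩ |
    ⟨rfl, rfl, rfl⟩ | ⟨rfl, rfl, rfl⟩ | ⟨rfl, rfl, rfl⟩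
  · exact Or.inl (full _ (ha.trans h))
  · exact Or.inl (full _ (hb.trans h))
  · exact Or.inl (full _ (hc.trans h))
  · exact Or.inr (g411 (fin rfl s0))
  · exact Or.inr (g411 (fin rfl s1))
  · exact Or.inr (g411 (fin rfl s2))
  · exact Or.inr (g330 (fin rfl s0))
  · exact Or.inr (g330 (fin rfl s1))
  · exact Or.inr (g330 (fin rfl s2))
  · exact Or.inr (g222 (fin rfl s0))

end Cfsg.Agent.H835.Eig
end

-- part: H835/Types
section
/-!
# `Fi22`: elements of order three commuting with a transposition (helper835)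

`types` : for `d ∈ T` the elements `x` of order three of `C(d)` are of three types, each type is one class of `C(d)`. For
type 1 (2) the transpositions commuting with `x` and `d`, other than `d`, form a complete multipartite graph (for
commuting) with two (three) parts (`Multi`).
-/

set_option autoImplicit false
set_option linter.unusedSectionVars false

namespace Cfsg.Agent.H835.Types

open Cfsg Cfsg.Agent.LieClassical.HermBasic Cfsg.Agent.LieClassical.HermSiegel
  Cfsg.Agent.ClassicalGeometry.HermOrtho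
open Cfsg.Agent.R01.Lifts Cfsg.Agent.R01.Label
open Cfsg.Agent.LThreeU7 (E mem_E two_eq_zero cube_of_ne ne_zero_of_cube)
open Cfsg.Agent.ClassicalGeometry.UnitAutBasic (pr pr_surjective exists_scalar_of_pr_eq pr_eq_of_scalar)
open Cfsg.Agent.H835.Eig
open Cfsg.Agent.LThreeFi22

universe v

/-! ### Scalars -/

section

variable {F : Type*} [Field F] [Fintype F] (hF : Fintype.card F = 2 ^ 2)
include hF

theorem core2 {c1 c2 d1 d2 d3 : F} (h1 : c1 ≠ 0) (h2 : c2 ≠ 0) (hd : d1 ^ 3 + d2 ^ 3 + d3 ^ 3 = 0)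
    (h : d1 * c1 ^ 2 + d2 * c2 ^ 2 = 0) : d1 = (d1 * c1 ^ 2) * c1 ∧ d2 = (d1 * c1 ^ 2) * c2 ∧ d3 = 0 := by
  have e1 := cube_of_ne hF h1
  have e2 := cube_of_ne hF h2
  have h22 := two_eq_zero hF
  have hA : d1 = (d1 * c1 ^ 2) * c1 := by linear_combination -d1 * e1
  have hB : d2 = (d1 * c1 ^ 2) * c2 := by
    linear_combination -d2 * e2 - c2 * h + d2 * c2 ^ 3 * h22
  refine ⟨hA, hB, ?_⟩
  have h3 : d3 ^ 3 = 0 := by
    have h4 : d1 ^ 3 = (d1 * c1 ^ 2) ^ 3 := by
      conv_lhs => rw [hA]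
      rw [mul_pow _ c1, e1, mul_one]
    have h5 : d2 ^ 3 = (d1 * c1 ^ 2) ^ 3 := by
      conv_lhs => rw [hB]
      rw [mul_pow _ c2, e2, mul_one]
    rw [h4, h5] at hd
    linear_combination hd - (d1 * c1 ^ 2) ^ 3 * h22
  exact pow_eq_zero_iff (by norm_num) |>.1 h3

theorem core {c1 c2 c3 d1 d2 d3 : F} (hc : c1 ^ 3 + c2 ^ 3 + c3 ^ 3 = 0) (hd : d1 ^ 3 + d2 ^ 3 + d3 ^ 3 = 0)
    (h : d1 * c1 ^ 2 + d2 * c2 ^ 2 + d3 * c3 ^ 2 = 0) (h0 : ¬ (c1 = 0 ∧ c2 = 0 ∧ c3 = 0)) :
    ∃ t : F, d1 = t * c1 ∧ d2 = t * c2 ∧ d3 = t * c3 := by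
  have h22 := two_eq_zero hF
  by_cases z1 : c1 = 0
  · by_cases z2 : c2 = 0
    · exfalso
      apply h0
      have h3 : c3 ^ 3 = 0 := by
        rw [z1, z2] at hc
        linear_combination hc
      exact ⟨z1, z2, pow_eq_zero_iff (by norm_num) |>.1 h3⟩
    · by_cases z3 : c3 = 0
      · exfalso
        have e2 := cube_of_ne hF z2
        rw [z1, z3, e2] at hc
        exact one_ne_zero (by linear_combination hc)
      · rw [z1] at h
        obtain ⟨e1, e2, e3⟩ := core2 hF (c1 := c2) (c2 := c3) (d1 := d2) (d2 := d3) (d3 := d1) z2 z3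
          (by linear_combination hd) (by linear_combination h)
        exact ⟨d2 * c2 ^ 2, by rw [e3, z1, mul_zero], e1, e2⟩
  · by_cases z2 : c2 = 0
    · by_cases z3 : c3 = 0
      · exfalso
        have e2 := cube_of_ne hF z1
        rw [z2, z3, e2] at hc
        exact one_ne_zero (by linear_combination hc)
      · rw [z2] at h
        obtain ⟨e1, e2, e3⟩ := core2 hF (c1 := c1) (c2 := c3) (d1 := d1) (d2 := d3) (d3 := d2) z1 z3
          (by linear_combination hd) (by linear_combination h)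
        exact ⟨d1 * c1 ^ 2, e1, by rw [e3, z2, mul_zero], e2⟩
    · by_cases z3 : c3 = 0
      · rw [z3] at h
        obtain ⟨e1, e2, e3⟩ := core2 hF (c1 := c1) (c2 := c2) (d1 := d1) (d2 := d2) (d3 := d3) z1 z2
          (by linear_combination hd) (by linear_combination h)
        exact ⟨d1 * c1 ^ 2, e1, e2, by rw [e3, z3, mul_zero]⟩
      · exfalso
        rw [cube_of_ne hF z1, cube_of_ne hF z2, cube_of_ne hF z3] at hc
        exact one_ne_zero (α := F) (by linear_combination hc - h22)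

end

/-! ### Eigenvectors and frames -/

section

variable {F : Type*} [Field F] [Fintype F] (hF : Fintype.card F = 2 ^ 2) {A : SU 6 F 2} {l : Fin 6 → F}
  {B : Fin 6 → (Fin 6 → F)} (hB : Frame A l B)
include hB

/-- the coefficients of an eigenvector vanish for the other eigenvalues -/
theorem coef_zero {x : F} {v : Fin 6 → F} (hl : ∀ i, l i ^ 3 = 1) (hv : act A v = x • v) {i : Fin 6}
    (hi : l i ≠ x) : hermForm 6 F 2 v (B i) = 0 := by
  have h1 := herm_act A v (B i)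
  rw [hv, hB.eig, herm_smul_left, herm_smul_right] at h1
  have h2 : (x * l i ^ 2 - 1) * hermForm 6 F 2 v (B i) = 0 := by linear_combination h1
  rcases mul_eq_zero.1 h2 with h3 | h3
  · exfalso
    apply hi
    have h4 : x * l i ^ 2 = 1 := by linear_combination h3
    calc l i = (x * l i ^ 2) * l i := by rw [h4, one_mul]
      _ = x * l i ^ 3 := by ring
      _ = x := by rw [hl, mul_one]
  · exact h3

include hF in
/-- the eigenvalue of an eigenvector is one of the `l i` -/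
theorem eig_mem {x : F} {v : Fin 6 → F} (hv0 : v ≠ 0) (hl : ∀ i, l i ^ 3 = 1)
    (hv : act A v = x • v) : ∃ i, l i = x := by
  by_contra hcon
  push Not at hcon
  apply hv0
  rw [expand hF hB.on v]
  exact Finset.sum_eq_zero fun i _ => by rw [coef_zero hB hl hv (hcon i), zero_smul]

include hF in
/-- orthogonal isotropic vectors supported on three frame vectors are proportional -/
theorem prop_of_three {i j k : Fin 6} (hij : i ≠ j) (hik : i ≠ k) (hjk : j ≠ k) {v u : Fin 6 → F} (hv0 : v ≠ 0)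
    (hv : hermForm 6 F 2 v v = 0) (hu : hermForm 6 F 2 u u = 0) (huv : hermForm 6 F 2 u v = 0)
    (hsv : ∀ m, m ≠ i → m ≠ j → m ≠ k → hermForm 6 F 2 v (B m) = 0)
    (hsu : ∀ m, m ≠ i → m ≠ j → m ≠ k → hermForm 6 F 2 u (B m) = 0) : ∃ t : F, u = t • v := by
  have hsum : ∀ f : Fin 6 → (Fin 6 → F), (∀ m, m ≠ i → m ≠ j → m ≠ k → f m = 0) → ∑ m, f m = f i + f j + f k := by
    intro f hf
    have h1 : ∑ m, f m = ∑ m ∈ ({i, j, k} : Finset (Fin 6)), f m := by
      symm
      apply Finset.sum_subset (Finset.subset_univ _)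
      intro m _ hm
      simp only [Finset.mem_insert, Finset.mem_singleton, not_or] at hm
      exact hf m hm.1 hm.2.1 hm.2.2
    rw [h1, Finset.sum_insert (by simp [hij, hik]), Finset.sum_insert (by simp [hjk]), Finset.sum_singleton, add_assoc]
  have ev : v = hermForm 6 F 2 v (B i) • B i + hermForm 6 F 2 v (B j) • B j + hermForm 6 F 2 v (B k) • B k := by
    conv_lhs => rw [expand hF hB.on v]
    exact hsum _ fun m h1 h2 h3 => by rw [hsv m h1 h2 h3, zero_smul]
  have eu : u = hermForm 6 F 2 u (B i) • B i + hermForm 6 F 2 u (B j) • B j + hermForm 6 F 2 u (B k) • B k := by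
    conv_lhs => rw [expand hF hB.on u]
    exact hsum _ fun m h1 h2 h3 => by rw [hsu m h1 h2 h3, zero_smul]
  set c1 := hermForm 6 F 2 v (B i)
  set c2 := hermForm 6 F 2 v (B j)
  set c3 := hermForm 6 F 2 v (B k)
  set d1 := hermForm 6 F 2 u (B i)
  set d2 := hermForm 6 F 2 u (B j)
  set d3 := hermForm 6 F 2 u (B k)
  have hform : ∀ a1 a2 a3 b1 b2 b3 : F, hermForm 6 F 2 (a1 • B i + a2 • B j + a3 • B k) (b1 • B i + b2 • B j + b3 • B k) =
      a1 * b1 ^ 2 + a2 * b2 ^ 2 + a3 * b3 ^ 2 := by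
    intro a1 a2 a3 b1 b2 b3
    simp only [herm_add_left, herm_add_right hF, herm_smul_left, herm_smul_right, hB.on, ite_true, if_neg hij,
      if_neg hik, if_neg hjk, if_neg hij.symm, if_neg hik.symm, if_neg hjk.symm]
    ring
  rw [ev, hform] at hv
  rw [eu, hform] at hu
  rw [eu, ev, hform] at huv
  obtain ⟨t, h1, h2, h3⟩ := core hF (c1 := c1) (c2 := c2) (c3 := c3) (d1 := d1) (d2 := d2) (d3 := d3)
    (by linear_combination hv) (by linear_combination hu) huv (by
      rintro ⟨h1, h2, h3⟩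
      apply hv0
      rw [ev, h1, h2, h3, zero_smul, zero_smul, zero_smul, add_zero, add_zero])
  refine ⟨t, ?_⟩
  rw [eu, ev, h1, h2, h3, smul_add, smul_add, smul_smul, smul_smul, smul_smul]

end

/-! ### In the centralizer of a transposition -/

section cen

variable {F : Type*} [Field F] [Fintype F] {C : Type*} [Group C] {hF : Fintype.card F = 2 ^ 2} {π : C →* PSU 6 F 2}
  {z ε : C} {lift : (Fin 6 → F) → C}

/-- `c` has a preimage of order three with a frame with eigenvalues `l` -/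
def TyC (π : C →* PSU 6 F 2) (l : Fin 6 → F) (c : C) : Prop :=
  c ^ 3 = 1 ∧ ∃ (A : SU 6 F 2) (B : Fin 6 → (Fin 6 → F)), pr 6 F 2 A = π c ∧ Frame A l B

/-- the labelled transpositions given by the eigenvectors for `x` -/
def Col (lift : (Fin 6 → F) → C) (A : SU 6 F 2) (x : F) (s : C) : Prop :=
  ∃ v : Fin 6 → F, v ≠ 0 ∧ hermForm 6 F 2 v v = 0 ∧ s = lift v ∧ act A v = x • v

variable (L : Lab hF π z ε lift)
include L

theorem conj_C {l : Fin 6 → F} {c c' : C} (h : TyC π l c) (h' : TyC π l c') : ∃ k : C, k * c * k⁻¹ = c' := by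
  obtain ⟨hc, A, B, hA, hB⟩ := h
  obtain ⟨hc', A', B', hA', hB'⟩ := h'
  obtain ⟨g, hg⟩ := hB.conj hF hB'
  obtain ⟨k, hk⟩ := L.ext.surj (pr 6 F 2 g)
  have h1 : π (k * c * k⁻¹) = π c' := by
    rw [map_mul, map_mul, map_inv, hk, ← hA, ← hA', ← hg, map_mul, map_mul, map_inv]
  rcases L.ext.map_eq.1 h1 with h2 | h2
  · exact ⟨k, h2⟩
  · exfalso
    have h3 : (k * c * k⁻¹) ^ 3 = 1 := by rw [conj_pow, hc, mul_one, mul_inv_cancel]
    have hz : Commute c' z := L.ext.comm c'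
    rw [h2, hz.mul_pow, hc', one_mul, pow_succ, pow_two, L.ext.zz, one_mul] at h3
    exact L.ext.zne h3

include hF in
theorem exists_TyC {w : F} (hw3 : w ^ 3 = 1) (hw1 : w ≠ 1) (hw : w ^ 2 + w + 1 = 0) {c : C} (hc : c ^ 3 = 1)
    (hc1 : c ≠ 1) : TyC π (lam w 4 1) c ∨ TyC π (lam w 3 3) c ∨ TyC π (lam w 2 2) c := by
  obtain ⟨A, hA, hA3⟩ := Coord.exists_lift_three (hF := hF) (π := π) hc
  rcases exists_frame hF hw3 hw1 hw hA3 with ⟨x, hx⟩ | ⟨k, hk, B, h⟩
  · exfalso
    apply hc1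
    apply Coord.eq_one_of_pr L (r := 3) (by decide) hc
    rw [← hA]
    exact Coord.pr_one_of_scalar hF hx
  · have h1 : pr 6 F 2 (sc k hk A) = π c := by
      rw [← hA]
      exact (pr_eq_of_scalar (fun x => act_sc hk A x)).symm
    rcases h with h | h | h
    · exact Or.inl ⟨hc, _, B, h1, h⟩
    · exact Or.inr (Or.inl ⟨hc, _, B, h1, h⟩)
    · exact Or.inr (Or.inr ⟨hc, _, B, h1, h⟩)

include hF in
/-- every type occurs -/
theorem exists_of_l {l : Fin 6 → F} (hl : ∏ i, l i = 1) (hl3 : ∀ i, l i ^ 3 = 1) {i j : Fin 6} (hij : l i ≠ l j) :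
    ∃ c : C, TyC π l c ∧ c ≠ 1 := by
  classical
  let A : SU 6 F 2 := mkSU (Matrix.diagonal l) (by rw [Matrix.det_diagonal, hl]) (by
    intro u v
    rw [herm_def, herm_def]
    refine Finset.sum_congr rfl fun i _ => ?_
    rw [Matrix.mulVec_diagonal, Matrix.mulVec_diagonal]
    linear_combination (u i * v i ^ 2) * hl3 i)
  have hact : ∀ v, act A v = fun i => l i * v i := by
    intro v
    ext i
    show (Matrix.diagonal l).mulVec v i = _
    rw [Matrix.mulVec_diagonal]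
  have hfr : Frame A l (fun i => Pi.single i 1) := by
    refine ⟨fun i j => ?_, fun i => ?_⟩
    · rw [herm_single_left]
      by_cases hij : i = j
      · rw [if_pos hij, hij, Pi.single_eq_same, one_pow, one_mul]
      · rw [if_neg hij, Pi.single_eq_of_ne hij, one_mul, zero_pow (by norm_num)]
    · rw [hact]
      ext j
      rw [Pi.smul_apply, smul_eq_mul]
      by_cases hij : j = i
      · rw [hij]
      · rw [Pi.single_eq_of_ne hij, mul_zero, mul_zero]
  have hA3 : A ^ 3 = 1 := by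
    apply ext_act
    intro v
    rw [pow_succ, pow_two, act_mul, act_mul, hact, hact, hact, act_one]
    ext i
    show l i * (l i * (l i * v i)) = v i
    linear_combination (v i) * hl3 i
  obtain ⟨c, hc⟩ := L.ext.surj (pr 6 F 2 A)
  have h1 : c ^ 6 = 1 := by
    have h2 : π (c ^ 3) = 1 := by rw [map_pow, hc, ← map_pow, hA3, map_one]
    have h3 : c ^ 6 = c ^ 3 * c ^ 3 := by rw [← pow_add]
    rcases (L.ext.ker _).1 h2 with h4 | h4
    · rw [h3, h4, one_mul]
    · rw [h3, h4, L.ext.zz]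
  have h2 : π (c ^ 4) = π c := by
    rw [map_pow, hc, ← map_pow, pow_succ, hA3, one_mul]
  refine ⟨c ^ 4, ⟨?_, A, _, ?_, hfr⟩, ?_⟩
  · rw [← pow_mul, show 4 * 3 = 6 * 2 from rfl, pow_mul, h1, one_pow]
  · rw [h2, hc]
  · intro h3
    rw [h3, map_one, hc] at h2
    obtain ⟨x, -, hx⟩ := Coord.scalar_of_pr_one hF h2.symm
    have key : ∀ k, l k = x := by
      intro k
      have h4 := congrFun (hx (Pi.single k 1)) k
      rw [hact] at h4
      have h5 : l k * (Pi.single k (1 : F) : Fin 6 → F) k = x * (Pi.single k (1 : F) : Fin 6 → F) k := h4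
      rwa [Pi.single_eq_same, mul_one, mul_one] at h5
    exact hij ((key i).trans (key j).symm)

theorem mem_iff {c : C} {A : SU 6 F 2} (hA : pr 6 F 2 A = π c) {s : C} :
    (s ∈ Dset lift ∧ c * s = s * c) ↔ ∃ x : F, x ^ 3 = 1 ∧ Col lift A x s := by
  constructor
  · rintro ⟨⟨v, hv0, hv, rfl⟩, h⟩
    obtain ⟨a, ha, h1⟩ := Coord.fix_line L hA hv0 hv h
    exact ⟨a, cube_of_ne hF ha, v, hv0, hv, rfl, h1⟩
  · rintro ⟨x, hx, v, hv0, hv, rfl, h⟩
    refine ⟨⟨v, hv0, hv, rfl⟩, ?_⟩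
    have h1 := L.conj c A v hA.symm hv0 hv
    have h2 : Cfsg.Agent.ClassicalGeometry.UnitTransv.act A v = x • v := h
    rw [h2, L.smul v x hv (ne_zero_of_cube hx)] at h1
    exact mul_inv_eq_iff_eq_mul.1 h1

theorem cross {A : SU 6 F 2} {x y : F} (hy : y ^ 3 = 1) (hxy : x ≠ y) {s t : C} (hs : Col lift A x s)
    (ht : Col lift A y t) : s * t = t * s ∧ s ≠ t := by
  obtain ⟨v, hv0, hv, rfl, h1⟩ := hs
  obtain ⟨u, hu0, hu, rfl, h2⟩ := ht
  refine ⟨(L.commute_iff hv hu hv0 hu0).2 (LThreeU7.orth hy hxy h1 h2), ?_⟩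
  intro h
  obtain ⟨c, hc, rfl⟩ := (L.lift_eq_iff hv hu hv0 hu0).1 h
  apply hxy
  rw [act_smul, h1, smul_comm] at h2
  have h3 : (x - y) • (c • v) = 0 := by rw [sub_smul, h2, sub_self]
  rcases smul_eq_zero.1 h3 with h4 | h4
  · exact sub_eq_zero.1 h4
  · exact absurd h4 hu0

theorem same {A : SU 6 F 2} {l : Fin 6 → F} {B : Fin 6 → (Fin 6 → F)} (hB : Frame A l B) (hl : ∀ i, l i ^ 3 = 1)
    {x : F} {i j k : Fin 6} (hij : i ≠ j) (hik : i ≠ k) (hjk : j ≠ k)
    (hx : ∀ m, m ≠ i → m ≠ j → m ≠ k → l m ≠ x) {s t : C} (hs : Col lift A x s)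
    (ht : Col lift A x t) (hst : s * t = t * s) : s = t := by
  obtain ⟨v, hv0, hv, rfl, h1⟩ := hs
  obtain ⟨u, hu0, hu, rfl, h2⟩ := ht
  have h3 := (L.commute_iff hu hv hu0 hv0).1 hst.symm
  obtain ⟨c, rfl⟩ := prop_of_three hF hB hij hik hjk hv0 hv hu h3
    (fun m e1 e2 e3 => coef_zero hB hl h1 (hx m e1 e2 e3)) (fun m e1 e2 e3 => coef_zero hB hl h2 (hx m e1 e2 e3))
  have hc : c ≠ 0 := by
    rintro rfl
    exact hu0 (zero_smul _ _)
  exact (L.smul v c hv hc).symm

include hF in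
theorem exists_Col {A : SU 6 F 2} {l : Fin 6 → F} {B : Fin 6 → (Fin 6 → F)} (hB : Frame A l B)
    {x : F} {i j : Fin 6} (hij : i ≠ j) (hi : l i = x) (hj : l j = x) : ∃ s : C, Col lift A x s := by
  refine ⟨lift (B i + B j), B i + B j, ?_, ?_, rfl, ?_⟩
  · intro h
    have h1 := congrArg (fun v => hermForm 6 F 2 v (B i)) h
    simp only [herm_add_left, herm_zero_left, hB.on, ite_true, if_neg hij.symm, add_zero] at h1
    exact one_ne_zero h1
  · rw [herm_add_left, herm_add_right hF, herm_add_right hF, hB.on, hB.on, hB.on, hB.on, if_pos rfl, if_pos rfl,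
      if_neg hij, if_neg hij.symm, add_zero, zero_add]
    have := two_eq_zero hF
    linear_combination this
  · rw [act_add, hB.eig, hB.eig, hi, hj, smul_add]

end cen

/-! ### The eigenvalues of the types -/

section lamdata

variable {F : Type*} [Field F] {w : F}

/-- the conditions on the eigenvalues `l` used in `multi_of` -/
structure Cond (l : Fin 6 → F) (n : ℕ) (y : Fin n → F) : Prop where
  hyl : ∀ i, ∃ k, l i = y k
  hyi : Function.Injective y
  h3 : ∀ k, ∃ i j m, i ≠ j ∧ i ≠ m ∧ j ≠ m ∧ (∀ r, r ≠ i → r ≠ j → r ≠ m → l r ≠ y k)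
  h2 : ∀ k, ∃ i j, i ≠ j ∧ l i = y k ∧ l j = y k

theorem cond33 (hw1 : w ≠ 1) : Cond (lam w 3 3) 2 ![1, w] where
  hyl i := by
    fin_cases i
    · exact ⟨0, rfl⟩
    · exact ⟨0, rfl⟩
    · exact ⟨0, rfl⟩
    · exact ⟨1, rfl⟩
    · exact ⟨1, rfl⟩
    · exact ⟨1, rfl⟩
  hyi i j hij := by
    fin_cases i <;> fin_cases j
    · rfl
    · exact absurd hij hw1.symm
    · exact absurd hij hw1
    · rfl
  h3 k := by
    fin_cases k
    · refine ⟨0, 1, 2, by decide, by decide, by decide, ?_⟩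
      intro r h0 h1 h2
      fin_cases r
      · exact absurd rfl h0
      · exact absurd rfl h1
      · exact absurd rfl h2
      · exact hw1
      · exact hw1
      · exact hw1
    · refine ⟨3, 4, 5, by decide, by decide, by decide, ?_⟩
      intro r h0 h1 h2
      fin_cases r
      · exact hw1.symm
      · exact hw1.symm
      · exact hw1.symm
      · exact absurd rfl h0
      · exact absurd rfl h1
      · exact absurd rfl h2
  h2 k := by
    fin_cases k
    · exact ⟨0, 1, by decide, rfl, rfl⟩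
    · exact ⟨3, 4, by decide, rfl, rfl⟩

theorem cond22 (hw1 : w ≠ 1) (n1 : w ^ 2 ≠ 1) (n2 : w ≠ w ^ 2) : Cond (lam w 2 2) 3 ![1, w, w ^ 2] where
  hyl i := by
    fin_cases i
    · exact ⟨0, rfl⟩
    · exact ⟨0, rfl⟩
    · exact ⟨1, rfl⟩
    · exact ⟨1, rfl⟩
    · exact ⟨2, rfl⟩
    · exact ⟨2, rfl⟩
  hyi i j hij := by
    fin_cases i <;> fin_cases j
    · rfl
    · exact absurd hij hw1.symm
    · exact absurd hij n1.symm
    · exact absurd hij hw1
    · rfl
    · exact absurd hij n2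
    · exact absurd hij n1
    · exact absurd hij n2.symm
    · rfl
  h3 k := by
    fin_cases k
    · refine ⟨0, 1, 2, by decide, by decide, by decide, ?_⟩
      intro r h0 h1 h2
      fin_cases r
      · exact absurd rfl h0
      · exact absurd rfl h1
      · exact absurd rfl h2
      · exact hw1
      · exact n1
      · exact n1
    · refine ⟨2, 3, 4, by decide, by decide, by decide, ?_⟩
      intro r h0 h1 h2
      fin_cases r
      · exact hw1.symm
      · exact hw1.symm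
      · exact absurd rfl h0
      · exact absurd rfl h1
      · exact absurd rfl h2
      · exact n2.symm
    · refine ⟨4, 5, 0, by decide, by decide, by decide, ?_⟩
      intro r h0 h1 h2
      fin_cases r
      · exact absurd rfl h2
      · exact n1.symm
      · exact n2
      · exact n2
      · exact absurd rfl h0
      · exact absurd rfl h1
  h2 k := by
    fin_cases k
    · exact ⟨0, 1, by decide, rfl, rfl⟩
    · exact ⟨2, 3, by decide, rfl, rfl⟩
    · exact ⟨4, 5, by decide, rfl, rfl⟩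

theorem lam_three (hw3 : w ^ 3 = 1) (a b : ℕ) (i : Fin 6) : lam w a b i ^ 3 = 1 := by
  unfold lam
  split_ifs
  · exact one_pow 3
  · exact hw3
  · rw [← pow_mul, mul_comm, pow_mul, hw3, one_pow]

end lamdata

/-! ### In `Fi22` -/

/-- The transpositions commuting with `x` and `d`, other than `d`, form a complete multipartite graph (for commuting) with
the parts `P`. -/
structure Multi {K : Type v} [Group K] (T : Set K) (x d : K) (n : ℕ) (P : Fin n → K → Prop) : Prop where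
  cov : ∀ s ∈ T, s ≠ d → d * s = s * d → x * s = s * x → ∃ k, P k s
  mem : ∀ k s, P k s → s ∈ T ∧ s ≠ d ∧ d * s = s * d ∧ x * s = s * x
  uniq : ∀ k s t, P k s → P k t → s * t = t * s → s = t
  cross : ∀ k l s t, k ≠ l → P k s → P l t → s * t = t * s ∧ s ≠ t
  ne : ∀ k, ∃ s, P k s

open Cfsg.Agent.SporRec.GF4 (F4)
open Cfsg.Agent.Fischer.Unit22 (hF)
open Cfsg.Agent.KFacts.FiTT (TK)

/-- from the centralizer of `d` to the group -/
theorem multi_of {K : Type v} [Group K] {T : Set K} {d : K} {π : Subgroup.centralizer ({d} : Set K) →* PSU 6 F4 2}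
    {lift : (Fin 6 → F4) → Subgroup.centralizer ({d} : Set K)}
    (hT : ∀ x : Subgroup.centralizer ({d} : Set K), x ∈ Dset lift ↔ (x : K) ∈ T ∧ (x : K) ≠ d ∧ d * (x : K) = x * d)
    (L : Lab hF π (Cfsg.Agent.R01.Start.zel d) (Cfsg.Agent.R01.Start.zel d) lift) {l : Fin 6 → F4} (hl : ∀ i, l i ^ 3 = 1)
    {x : K} (hx : x ∈ Subgroup.centralizer ({d} : Set K)) (h : TyC π l ⟨x, hx⟩) {n : ℕ} {y : Fin n → F4}
    (hy : ∀ k, y k ^ 3 = 1) (hc : Cond l n y) : ∃ P : Fin n → K → Prop, Multi T x d n P := by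
  obtain ⟨hyl, hyi, h3, h2⟩ := hc
  obtain ⟨hc, A, B, hA, hB⟩ := h
  refine ⟨fun k s => ∃ s' : Subgroup.centralizer ({d} : Set K), Col lift A (y k) s' ∧ (s' : K) = s, ?_, ?_, ?_, ?_, ?_⟩
  · intro s hs hsd hds hxs
    let s' : Subgroup.centralizer ({d} : Set K) := ⟨s, Subgroup.mem_centralizer_singleton_iff.2 hds.symm⟩
    have h1 : s' ∈ Dset lift := (hT s').2 ⟨hs, hsd, hds⟩
    obtain ⟨x', hx', h4⟩ := (mem_iff L hA).1 ⟨h1, Subtype.ext hxs⟩
    obtain ⟨v, hv0, hv, hsv, hvx⟩ := id h4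
    obtain ⟨i, hi⟩ := eig_mem hF hB hv0 hl hvx
    obtain ⟨k, hk⟩ := hyl i
    exact ⟨k, s', by rw [← hk, hi]; exact h4, rfl⟩
  · rintro k _ ⟨s', hs', rfl⟩
    have h1 := (mem_iff L hA).2 ⟨y k, hy k, hs'⟩
    obtain ⟨e1, e2, e3⟩ := (hT s').1 h1.1
    exact ⟨e1, e2, e3, congrArg Subtype.val h1.2⟩
  · rintro k _ _ ⟨s', hs', rfl⟩ ⟨t', ht', rfl⟩ hst
    obtain ⟨i, j, m, hij, him, hjm, hr⟩ := h3 k
    exact congrArg Subtype.val (same L hB hl hij him hjm hr hs' ht' (Subtype.ext hst))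
  · rintro k k' _ _ hkk ⟨s', hs', rfl⟩ ⟨t', ht', rfl⟩
    obtain ⟨e1, e2⟩ := cross L (hy k') (fun h => hkk (hyi h)) hs' ht'
    exact ⟨congrArg Subtype.val e1, fun h => e2 (Subtype.ext h)⟩
  · intro k
    obtain ⟨i, j, hij, hi, hj⟩ := h2 k
    obtain ⟨s', hs'⟩ := exists_Col L hB hij hi hj
    exact ⟨_, s', hs', rfl⟩

/-- **The types of the elements of order three commuting with a transposition `d`.** -/
theorem types {K : Type v} [Group K] (e : K ≃* Spor.Fi22) {d : K} (hd : d ∈ TK e) : ∃ Ty : Fin 3 → K → Prop,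
    (∀ x : K, x ^ 3 = 1 → x ≠ 1 → x * d = d * x → ∃ i, Ty i x) ∧
    (∀ i x y, Ty i x → Ty i y → ∃ g : K, g * d = d * g ∧ g * x * g⁻¹ = y) ∧
    (∀ i x, Ty i x → x ^ 3 = 1 ∧ x ≠ 1 ∧ x * d = d * x) ∧ (∃ x, Ty 1 x) ∧ (∃ x, Ty 2 x) ∧
    (∀ x, Ty 1 x → ∃ P : Fin 2 → K → Prop, Multi (TK e) x d 2 P) ∧
    (∀ x, Ty 2 x → ∃ P : Fin 3 → K → Prop, Multi (TK e) x d 3 P) := by
  obtain ⟨π, lift, B⟩ := Inst.base_at e hd
  have L := B.lab
  obtain ⟨w, hw3, hw1, hw⟩ := Cfsg.Agent.LThreeU7.exists_omega hF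
  have hww : (w ^ 2) ^ 3 = 1 := by rw [← pow_mul, mul_comm, pow_mul, hw3, one_pow]
  have n1 : w ^ 2 ≠ 1 := by
    intro h
    apply hw1
    have : w ^ 3 = w ^ 2 * w := by ring
    rw [h, one_mul, hw3] at this
    exact this.symm
  have n2 : w ≠ w ^ 2 := by
    intro h
    apply hw1
    have h5 : w * (w - 1) = 0 := by linear_combination -h
    rcases mul_eq_zero.1 h5 with h6 | h6
    · exact absurd h6 (ne_zero_of_cube hw3)
    · exact sub_eq_zero.1 h6
  have hT : ∀ x : Subgroup.centralizer ({d} : Set K), x ∈ Dset lift ↔ (x : K) ∈ TK e ∧ (x : K) ≠ d ∧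
      d * (x : K) = x * d := fun x => ⟨fun h => Inst.of_D B h, fun ⟨h1, h2, h3⟩ => Inst.mem_D B h1 h2 h3⟩
  have hlam3 := lam_three hw3
  let ll : Fin 3 → Fin 6 → F4 := ![lam w 4 1, lam w 3 3, lam w 2 2]
  have hexists : ∀ a b : ℕ, (∃ i j, lam w a b i ≠ lam w a b j) →
      a + b ≤ 6 → (b + 2 * (6 - a - b)) % 3 = 0 →
      ∃ x : K, ∃ hx : x ∈ Subgroup.centralizer ({d} : Set K), x ≠ 1 ∧ TyC π (lam w a b) ⟨x, hx⟩ := by
    rintro a b ⟨i, j, hij⟩ h6 h3
    obtain ⟨c, hc, hc1⟩ := exists_of_l L (l := lam w a b) (by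
      rw [prod_lam w _ _ h6]
      obtain ⟨m, hm⟩ := Nat.dvd_of_mod_eq_zero h3
      rw [hm, pow_mul, hw3, one_pow]) (hlam3 _ _) hij
    exact ⟨c, c.2, fun h => hc1 (Subtype.ext h), hc⟩
  refine ⟨fun k x => ∃ hx : x ∈ Subgroup.centralizer ({d} : Set K), x ≠ 1 ∧
    TyC π (ll k) ⟨x, hx⟩, ?_, ?_, ?_, ?_, ?_, ?_, ?_⟩
  · intro x hx3 hx1 hxd
    have hx : x ∈ Subgroup.centralizer ({d} : Set K) := Subgroup.mem_centralizer_singleton_iff.2 hxd
    rcases exists_TyC L hw3 hw1 hw (c := ⟨x, hx⟩) (Subtype.ext hx3) (fun h => hx1 (congrArg Subtype.val h)) with h | h | h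
    · exact ⟨0, hx, hx1, h⟩
    · exact ⟨1, hx, hx1, h⟩
    · exact ⟨2, hx, hx1, h⟩
  · rintro i x y ⟨hx, -, h⟩ ⟨hy, -, h'⟩
    obtain ⟨k, hk⟩ := conj_C L h h'
    exact ⟨k, Subgroup.mem_centralizer_singleton_iff.1 k.2, congrArg Subtype.val hk⟩
  · rintro i x ⟨hx, hx1, h⟩
    exact ⟨congrArg Subtype.val h.1, hx1, Subgroup.mem_centralizer_singleton_iff.1 hx⟩
  · exact hexists 3 3 ⟨3, 0, hw1⟩ (by norm_num) (by norm_num)
  · exact hexists 2 2 ⟨2, 0, hw1⟩ (by norm_num) (by norm_num)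
  · rintro x ⟨hx, -, h⟩
    refine multi_of hT L (hlam3 3 3) hx h (y := ![1, w]) ?_ (cond33 hw1)
    intro i
    fin_cases i
    · exact one_pow 3
    · exact hw3
  · rintro x ⟨hx, -, h⟩
    refine multi_of hT L (hlam3 2 2) hx h (y := ![1, w, w ^ 2]) ?_ (cond22 hw1 n1 n2)
    intro i
    fin_cases i
    · exact one_pow 3
    · exact hw3
    · exact hww

end Cfsg.Agent.H835.Types
end

-- part: H835/Kind
section
/-!
# `Fi22`: the kinds of elements of order three commuting with a transposition (helper835)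

For `x` of order three commuting with some member of `T` one of the following holds for all `d ∈ T` commuting with `x`:
`Is3A T x`, or the graph of the transpositions commuting with `x` and `d` is complete multipartite with 3 (2) parts.
The sets of commuting transpositions of `C(x)` have at most 6, 4, 3 elements.
-/

set_option autoImplicit false
set_option linter.unusedSectionVars false

namespace Cfsg.Agent.H835.Kind

open Cfsg Cfsg.Agent.LThreeFi22 Cfsg.Agent.H836 Cfsg.Agent.H834 Cfsg.Agent.H835.Types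
open Cfsg.Agent.H834.AD
open Cfsg.Agent.KFacts.FiTT (TK)

universe v

variable {K : Type v} [Group K]

/-- a set of commuting transpositions commuting with `x` -/
structure Clq (T : Set K) (x : K) (E : Set K) : Prop where
  sub : E ⊆ Fx T x
  comm : ∀ a ∈ E, ∀ b ∈ E, a * b = b * a

/-- a clique is bounded by the number of parts -/
theorem Multi.le [Finite K] {T : Set K} {x d : K} {n : ℕ} {P : Fin n → K → Prop} (h : Multi T x d n P) {E : Set K}
    (hE : Clq T x E) (hd : d ∈ E) : E.ncard ≤ n + 1 := by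
  have h1 : ∀ s : ↥(E \ {d}), ∃ k, P k s := by
    rintro ⟨s, hs, hsd⟩
    have hsd' : s ≠ d := hsd
    exact h.cov s (hE.sub hs).1 hsd' (hE.comm d hd s hs) (hE.sub hs).2
  choose f hf using h1
  have hinj : Function.Injective f := by
    intro s t hst
    apply Subtype.ext
    refine h.uniq (f s) s t (hf s) (by rw [hst]; exact hf t) (hE.comm _ s.2.1 _ t.2.1)
  have h2 := Nat.card_le_card_of_injective f hinj
  rw [Nat.card_eq_fintype_card (α := Fin n), Fintype.card_fin] at h2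
  have h3 : (E \ {d}).ncard ≤ n := h2
  rw [Set.ncard_sdiff_singleton_of_mem hd] at h3
  omega

/-- a clique through two given vertices -/
theorem Multi.exists_clq [Finite K] {T : Set K} (hsq : ∀ t ∈ T, t * t = 1) {x d : K} (hd : d ∈ Fx T x)
    {P : Fin 3 → K → Prop} (h : Multi T x d 3 P) {s : K}
    (hs : s ∈ Fx T x) (hsd : s ≠ d) (hds : d * s = s * d) : ∃ E : Set K, Clq T x E ∧ d ∈ E ∧ s ∈ E ∧ E.ncard = 4 := by
  classical
  obtain ⟨k, hk⟩ := h.cov s hs.1 hsd hds hs.2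
  have hcol : ∀ k : Fin 3, ∃ k1 k2 : Fin 3, k ≠ k1 ∧ k ≠ k2 ∧ k1 ≠ k2 := by decide
  obtain ⟨k1, k2, h1, h2, h3⟩ := hcol k
  obtain ⟨t, ht⟩ := h.ne k1
  obtain ⟨u, hu⟩ := h.ne k2
  obtain ⟨c1, n1⟩ := h.cross _ _ _ _ h1 hk ht
  obtain ⟨c2, n2⟩ := h.cross _ _ _ _ h2 hk hu
  obtain ⟨c3, n3⟩ := h.cross _ _ _ _ h3 ht hu
  obtain ⟨mt1, mt2, mt3, mt4⟩ := h.mem _ _ ht
  obtain ⟨mu1, mu2, mu3, mu4⟩ := h.mem _ _ hu
  refine ⟨{d, s, t, u}, ⟨?_, ?_⟩, by simp, by simp, ?_⟩
  · rintro y (rfl | rfl | rfl | rfl)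
    · exact hd
    · exact hs
    · exact ⟨mt1, mt4⟩
    · exact ⟨mu1, mu4⟩
  · rintro a (rfl | rfl | rfl | rfl) b (rfl | rfl | rfl | rfl)
    all_goals first | rfl | assumption | (symm; assumption)
  · rw [Set.ncard_insert_of_notMem, Set.ncard_insert_of_notMem, Set.ncard_pair n3]
    · simp [n1, n2]
    · simp [hsd.symm, mt2.symm, mu2.symm]

/-- a clique through one vertex -/
theorem Multi.exists_clq' [Finite K] {T : Set K} (hsq : ∀ t ∈ T, t * t = 1) {x d : K} (hd : d ∈ Fx T x)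
    {P : Fin 3 → K → Prop} (h : Multi T x d 3 P) : ∃ E : Set K, Clq T x E ∧ d ∈ E ∧ E.ncard = 4 := by
  obtain ⟨s, hs⟩ := h.ne 0
  obtain ⟨m1, m2, m3, m4⟩ := h.mem _ _ hs
  obtain ⟨E, h1, h2, -, h3⟩ := Multi.exists_clq hsq hd h ⟨m1, m4⟩ m2 m3
  exact ⟨E, h1, h2, h3⟩

/-- two commuting vertices in different parts -/
theorem Multi.exists_pair {T : Set K} {x d : K} {P : Fin 2 → K → Prop} (h : Multi T x d 2 P) :
    ∃ b c, b ∈ Fx T x ∧ c ∈ Fx T x ∧ b ≠ d ∧ c ≠ d ∧ b ≠ c ∧ d * b = b * d ∧ d * c = c * d ∧ b * c = c * b := by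
  obtain ⟨b, hb⟩ := h.ne 0
  obtain ⟨c, hc⟩ := h.ne 1
  obtain ⟨b1, b2, b3, b4⟩ := h.mem _ _ hb
  obtain ⟨c1, c2, c3, c4⟩ := h.mem _ _ hc
  obtain ⟨e1, e2⟩ := h.cross 0 1 _ _ (by decide) hb hc
  exact ⟨b, c, ⟨b1, b4⟩, ⟨c1, c4⟩, b2, c2, e2, b3, c3, e1⟩

/-! ### The highest root of `D₄` -/

section D4

variable {a b c t : K}

theorem d4_comm (ha : a * a = 1) (hb : b * b = 1) (hc : c * c = 1) (ht : t * t = 1) (hab : a * b = b * a)
    (hac : a * c = c * a) (hbc : b * c = c * b) (bat : a * t * a = t * a * t) (bbt : b * t * b = t * b * t)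
    (bct : c * t * c = t * c * t) :
    a * (t * (a * b * c) * t * (a * b * c) * t) = t * (a * b * c) * t * (a * b * c) * t * a := by
  -- `s = b c t c b` commutes with `t`
  have hs : b * c * t * c * b = b * t * c * t * b := by
    calc b * c * t * c * b = b * (c * t * c) * b := by group
      _ = b * (t * c * t) * b := by rw [bct]
      _ = b * t * c * t * b := by group
  have hts : t * (b * c * t * c * b) * t = b * c * t * c * b := by
    rw [hs]
    calc t * (b * t * c * t * b) * t = (t * b * t) * c * (t * b * t) := by group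
      _ = (b * t * b) * c * (b * t * b) := by rw [bbt]
      _ = b * t * (b * c) * b * t * b := by group
      _ = b * t * (c * b) * b * t * b := by rw [hbc]
      _ = b * t * c * (b * b) * t * b := by group
      _ = b * t * c * t * b := by rw [hb]; group
  have hz : a * b * c * t * (a * b * c) = a * (b * c * t * c * b) * a := by
    calc a * b * c * t * (a * b * c) = a * b * c * t * (a * (b * c)) := by group
      _ = a * b * c * t * (a * (c * b)) := by rw [hbc]
      _ = a * b * c * t * ((a * c) * b) := by group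
      _ = a * b * c * t * ((c * a) * b) := by rw [hac]
      _ = a * b * c * t * (c * (a * b)) := by group
      _ = a * b * c * t * (c * (b * a)) := by rw [hab]
      _ = a * (b * c * t * c * b) * a := by group
  set s := b * c * t * c * b with hsdef
  have hd : t * (a * b * c) * t * (a * b * c) * t = t * a * s * a * t := by
    calc t * (a * b * c) * t * (a * b * c) * t = t * (a * b * c * t * (a * b * c)) * t := by group
      _ = t * (a * s * a) * t := by rw [hz]
      _ = t * a * s * a * t := by group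
  rw [hd]
  have h1 : a * (t * a * s * a * t) * a = t * a * s * a * t := by
    calc a * (t * a * s * a * t) * a = (a * t * a) * s * (a * t * a) := by group
      _ = (t * a * t) * s * (t * a * t) := by rw [bat]
      _ = t * a * (t * s * t) * a * t := by group
      _ = t * a * s * a * t := by rw [hts]
  calc a * (t * a * s * a * t) = a * (t * a * s * a * t) * (a * a) := by rw [ha, mul_one]
    _ = (a * (t * a * s * a * t) * a) * a := by group
    _ = t * a * s * a * t * a := by rw [h1]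

theorem d4_ne (ha : a * a = 1) (hb : b * b = 1) (hc : c * c = 1) (ht : t * t = 1) (hab : a * b = b * a)
    (hac : a * c = c * a) (hbc : b * c = c * b) (bat : a * t * a = t * a * t)
    (h : t * (a * b * c) * t * (a * b * c) * t = a) : t * (b * c) = b * c * t := by
  have hz : a * b * c * t * (a * b * c) = a * (b * c * t * c * b) * a := by
    calc a * b * c * t * (a * b * c) = a * b * c * t * (a * (b * c)) := by group
      _ = a * b * c * t * (a * (c * b)) := by rw [hbc]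
      _ = a * b * c * t * ((a * c) * b) := by group
      _ = a * b * c * t * ((c * a) * b) := by rw [hac]
      _ = a * b * c * t * (c * (a * b)) := by group
      _ = a * b * c * t * (c * (b * a)) := by rw [hab]
      _ = a * (b * c * t * c * b) * a := by group
  have h1 : a * (b * c * t * c * b) * a = a * t * a := by
    calc a * (b * c * t * c * b) * a = a * b * c * t * (a * b * c) := hz.symm
      _ = (t * t) * (a * b * c * t * (a * b * c)) * (t * t) := by rw [ht, one_mul, mul_one]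
      _ = t * (t * (a * b * c) * t * (a * b * c) * t) * t := by group
      _ = t * a * t := by rw [h]
      _ = a * t * a := bat.symm
  have h2 : b * c * t * c * b = t := by
    have := mul_right_cancel h1
    exact mul_left_cancel this
  calc t * (b * c) = b * c * t * c * b * (b * c) := by rw [h2]
    _ = b * c * t * c * (b * b) * c := by group
    _ = b * c * t * (c * c) := by rw [hb]; group
    _ = b * c * t := by rw [hc, mul_one]

end D4

/-! ### Products of two noncommuting transpositions -/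

section ThreeA

variable {T : Set K} (m : Model K T)

theorem mem_Fx_iff {p : ℕ} (hp : p < 3510) : m.t p ∈ Fx T (m.t 0 * m.t 2) ↔ F.testBit p = true := by
  rw [m.Fab_iff hp]
  exact ⟨fun h => h.2, fun h => ⟨m.t_mem hp, h⟩⟩

theorem Fx_eq : Fx T (m.t 0 * m.t 2) = {y : K | ∃ p < 3510, F.testBit p = true ∧ y = m.t p} := by
  ext y
  constructor
  · intro hy
    obtain ⟨p, hp, rfl⟩ := m.mem_iff.1 hy.1
    exact ⟨p, hp, (mem_Fx_iff m hp).1 hy, rfl⟩
  · rintro ⟨p, hp, h, rfl⟩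
    exact (mem_Fx_iff m hp).2 h

include m in
theorem width_three {x : K} (hx : Is3A T x) : Cfsg.commutingWidth (Fx T x) = 6 := by
  obtain ⟨a, ha, b, hb, hab, rfl⟩ := hx
  obtain ⟨m', rfl, rfl⟩ := m.exists_modelN ha hb hab
  rw [Fx_eq]
  exact m'.width_F

include m in
/-- two commuting transpositions commuting with `x` lie in a clique with six elements -/
theorem exists_six {x : K} (hx : Is3A T x) {s t : K} (hs : s ∈ Fx T x) (ht : t ∈ Fx T x) (hst : s ≠ t)
    (hc : s * t = t * s) : ∃ E : Set K, Clq T x E ∧ s ∈ E ∧ t ∈ E ∧ E.ncard = 6 := by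
  have hfin := m.finite
  have hw := width_three m hx
  obtain ⟨a, ha, b, hb, hab, rfl⟩ := hx
  obtain ⟨m', rfl, rfl⟩ := m.exists_modelN ha hb hab
  obtain ⟨E0, hE0, hE0c, hE06⟩ := exists_of_commutingWidth (Fx T (m'.t 0 * m'.t 2))
  rw [hw] at hE06
  -- two members of `E0`
  obtain ⟨s0, t0, hs0, ht0, hne⟩ := (Set.one_lt_ncard_iff (Set.toFinite _)).1 (show 1 < E0.ncard by omega)
  have key : ∀ s t : K, s ∈ Fx T (m'.t 0 * m'.t 2) → t ∈ Fx T (m'.t 0 * m'.t 2) → s ≠ t → s * t = t * s →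
      ∃ k ∈ m'.KF, k * m'.t 16 * k⁻¹ = s ∧ k * m'.t 88 * k⁻¹ = t := by
    intro s t hs ht hst hc
    obtain ⟨p, hp, rfl⟩ := m'.mem_iff.1 hs.1
    obtain ⟨q, hq, rfl⟩ := m'.mem_iff.1 ht.1
    obtain ⟨k, hk, h1, h2⟩ := m'.KF_trans45 ((mem_Fx_iff m' hp).1 hs) ((mem_Fx_iff m' hq).1 ht)
      (fun h => hst (by rw [h])) hc
    exact ⟨k, hk, by rw [m'.conj_t k (by norm_num), h1], by rw [m'.conj_t k (by norm_num), h2]⟩
  obtain ⟨k1, hk1, e1, e2⟩ := key s0 t0 (hE0 hs0) (hE0 ht0) hne (hE0c _ hs0 _ ht0)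
  obtain ⟨k2, hk2, e3, e4⟩ := key s t hs ht hst hc
  have hk : ∀ k ∈ m'.KF, k * (m'.t 0 * m'.t 2) = m'.t 0 * m'.t 2 * k := by
    intro k hk
    have h1 := m'.KF_le hk
    rw [Subgroup.mem_centralizer_iff] at h1
    have h2 := h1 (m'.t 0) (by simp)
    have h3 := h1 (m'.t 2) (by simp)
    calc k * (m'.t 0 * m'.t 2) = (k * m'.t 0) * m'.t 2 := by group
      _ = m'.t 0 * (k * m'.t 2) := by rw [← h2]; group
      _ = m'.t 0 * m'.t 2 * k := by rw [← h3]; group
  have hconj : ∀ k ∈ m'.KF, ∀ y ∈ Fx T (m'.t 0 * m'.t 2), k * y * k⁻¹ ∈ Fx T (m'.t 0 * m'.t 2) := by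
    rintro k hk' y ⟨hy1, hy2⟩
    refine ⟨?_, ?_⟩
    · obtain ⟨p, hp, rfl⟩ := m'.mem_iff.1 hy1
      rw [m'.conj_t k hp]
      exact m'.t_mem (m'.φ_lt k hp)
    · have h1 : Commute (m'.t 0 * m'.t 2) k := (hk k hk').symm
      have h2 : Commute (m'.t 0 * m'.t 2) y := hy2
      exact ((h1.mul_right h2).mul_right h1.inv_right).eq
  set k := k2 * k1⁻¹ with hkdef
  have hkK : k ∈ m'.KF := m'.KF.mul_mem hk2 (m'.KF.inv_mem hk1)
  refine ⟨(MulAut.conj k) '' E0, ⟨?_, ?_⟩, ⟨s0, hs0, ?_⟩, ⟨t0, ht0, ?_⟩, ?_⟩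
  · rintro _ ⟨y, hy, rfl⟩
    exact hconj k hkK y (hE0 hy)
  · rintro _ ⟨y, hy, rfl⟩ _ ⟨z, hz, rfl⟩
    rw [← map_mul, ← map_mul, (hE0c y hy z hz).eq]
  · show k * s0 * k⁻¹ = s
    rw [hkdef, ← e1, ← e3]
    group
  · show k * t0 * k⁻¹ = t
    rw [hkdef, ← e2, ← e4]
    group
  · rw [Set.ncard_image_of_injective _ (MulAut.conj k).injective, hE06]

include m in
theorem exists_six' {x : K} (hx : Is3A T x) {s : K} (hs : s ∈ Fx T x) :
    ∃ E : Set K, Clq T x E ∧ s ∈ E ∧ E.ncard = 6 := by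
  have hfin := m.finite
  have hw := width_three m hx
  obtain ⟨a, ha, b, hb, hab, rfl⟩ := id hx
  obtain ⟨m', rfl, rfl⟩ := m.exists_modelN ha hb hab
  obtain ⟨E0, hE0, hE0c, hE06⟩ := exists_of_commutingWidth (Fx T (m'.t 0 * m'.t 2))
  rw [hw] at hE06
  obtain ⟨s0, t0, hs0, ht0, hne⟩ := (Set.one_lt_ncard_iff (Set.toFinite _)).1 (show 1 < E0.ncard by omega)
  have key : ∀ s : K, s ∈ Fx T (m'.t 0 * m'.t 2) → ∃ k ∈ m'.KF, k * m'.t 16 * k⁻¹ = s := by
    intro s hs
    obtain ⟨p, hp, rfl⟩ := m'.mem_iff.1 hs.1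
    obtain ⟨k, hk, h1⟩ := m'.KF_trans ((mem_Fx_iff m' hp).1 hs)
    exact ⟨k, hk, by rw [m'.conj_t k (by norm_num), h1]⟩
  obtain ⟨k1, hk1, e1⟩ := key s0 (hE0 hs0)
  obtain ⟨k2, hk2, e2⟩ := key s hs
  -- a neighbour of `s`
  have hk : ∀ k ∈ m'.KF, k * (m'.t 0 * m'.t 2) = m'.t 0 * m'.t 2 * k := by
    intro k hk
    have h1 := m'.KF_le hk
    rw [Subgroup.mem_centralizer_iff] at h1
    have h2 := h1 (m'.t 0) (by simp)
    have h3 := h1 (m'.t 2) (by simp)
    calc k * (m'.t 0 * m'.t 2) = (k * m'.t 0) * m'.t 2 := by group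
      _ = m'.t 0 * (k * m'.t 2) := by rw [← h2]; group
      _ = m'.t 0 * m'.t 2 * k := by rw [← h3]; group
  set k := k2 * k1⁻¹ with hkdef
  have hkK : k ∈ m'.KF := m'.KF.mul_mem hk2 (m'.KF.inv_mem hk1)
  have hks : k * s0 * k⁻¹ = s := by
    rw [hkdef, ← e1, ← e2]
    group
  have ht1 : k * t0 * k⁻¹ ∈ Fx T (m'.t 0 * m'.t 2) := by
    obtain ⟨hy1, hy2⟩ := hE0 ht0
    refine ⟨?_, ?_⟩
    · obtain ⟨p, hp, rfl⟩ := m'.mem_iff.1 hy1
      rw [m'.conj_t k hp]
      exact m'.t_mem (m'.φ_lt k hp)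
    · have h1 : Commute (m'.t 0 * m'.t 2) k := (hk k hkK).symm
      have h2 : Commute (m'.t 0 * m'.t 2) t0 := hy2
      exact ((h1.mul_right h2).mul_right h1.inv_right).eq
  obtain ⟨E, h1, h2, -, h3⟩ := exists_six m hx hs ht1 (by
    rw [← hks]
    intro h
    exact hne (mul_left_cancel (mul_right_cancel h))) (by
    rw [← hks]
    exact (conj_comm_iff k s0 t0).2 (hE0c s0 hs0 t0 ht0))
  exact ⟨E, h1, h2, h3⟩

end ThreeA

/-! ### The kinds -/

section main

variable (e : K ≃* Spor.Fi22)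

/-- **trichotomy** -/
theorem kind {x d : K} (hx : x ^ 3 = 1) (hx1 : x ≠ 1) (hd : d ∈ Fx (TK e) x) : Is3A (TK e) x ∨
    (∃ P : Fin 2 → K → Prop, Multi (TK e) x d 2 P) ∨ (∃ P : Fin 3 → K → Prop, Multi (TK e) x d 3 P) := by
  have I := inv_of_iso e
  have hfin := I.ctx.finite
  obtain ⟨m⟩ := Cfsg.Agent.H834.Bridge.model_of_iso e (D := TK e) rfl
  obtain ⟨Ty, h1, h2, h3, h4, h5, h6, h7⟩ := types e hd.1
  obtain ⟨i, hi⟩ := h1 x hx hx1 hd.2
  fin_cases i
  · left
    -- a product of two noncommuting transpositions commuting with `d`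
    obtain ⟨a, ha, b, hb, c, hc, hab, hac, hbc⟩ := I.ctx.mupos
    obtain ⟨g, hg⟩ := I.ctx.trans_one hc hd.1
    have hA : Is3A (TK e) (g * a * g⁻¹ * (g * b * g⁻¹)) := by
      refine ⟨_, I.ctx.conj a ha g, _, I.ctx.conj b hb g, ?_, rfl⟩
      rw [Ne, conj_comm_iff]
      exact hab
    have hcom : g * a * g⁻¹ * (g * b * g⁻¹) * d = d * (g * a * g⁻¹ * (g * b * g⁻¹)) := by
      have e1 := (conj_comm_iff g a c).2 hac
      have e2 := (conj_comm_iff g b c).2 hbc
      rw [hg] at e1 e2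
      calc g * a * g⁻¹ * (g * b * g⁻¹) * d = g * a * g⁻¹ * (g * b * g⁻¹ * d) := by group
        _ = g * a * g⁻¹ * d * (g * b * g⁻¹) := by rw [e2]; group
        _ = d * (g * a * g⁻¹ * (g * b * g⁻¹)) := by rw [e1]; group
    have hx3 : (g * a * g⁻¹ * (g * b * g⁻¹)) ^ 3 = 1 := by
      refine I.ctx.cube (I.ctx.conj a ha g) (I.ctx.conj b hb g) ?_
      rw [Ne, conj_comm_iff]
      exact hab
    have hx1' : g * a * g⁻¹ * (g * b * g⁻¹) ≠ 1 := by
      intro h
      apply hab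
      have h8 : g * a * g⁻¹ = (g * b * g⁻¹)⁻¹ := eq_inv_of_mul_eq_one_left h
      have h9 : g * a * g⁻¹ = g * b * g⁻¹ := by
        rw [h8]
        exact I.ctx.inv (I.ctx.conj b hb g)
      rw [mul_left_cancel (mul_right_cancel h9)]
    set y := g * a * g⁻¹ * (g * b * g⁻¹) with hy
    obtain ⟨j, hj⟩ := h1 y hx3 hx1' hcom
    obtain ⟨E, hE1, hE2, hE3⟩ := exists_six' m hA (s := d) ⟨hd.1, hcom⟩
    fin_cases j
    · obtain ⟨k, -, hk⟩ := h2 0 y x hj hi
      obtain ⟨a', ha', b', hb', hab', hyab⟩ := hA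
      refine ⟨_, I.ctx.conj a' ha' k, _, I.ctx.conj b' hb' k, ?_, ?_⟩
      · rw [Ne, conj_comm_iff]
        exact hab'
      · rw [← hk, hyab]
        group
    · exfalso
      obtain ⟨P, hP⟩ := h6 y hj
      have := Multi.le hP hE1 hE2
      omega
    · exfalso
      obtain ⟨P, hP⟩ := h7 y hj
      have := Multi.le hP hE1 hE2
      omega
  · exact Or.inr (Or.inl (h6 x hi))
  · exact Or.inr (Or.inr (h7 x hi))

/-- a transposition which lies in a clique with four elements -/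
def Q (T : Set K) (x d : K) : Prop := ∃ E : Set K, Clq T x E ∧ d ∈ E ∧ 4 ≤ E.ncard

theorem two_of_not_Q {x d : K} (hx : x ^ 3 = 1) (hx1 : x ≠ 1) (hd : d ∈ Fx (TK e) x) (hQ : ¬ Q (TK e) x d) :
    ∃ P : Fin 2 → K → Prop, Multi (TK e) x d 2 P := by
  have I := inv_of_iso e
  have hfin := I.ctx.finite
  obtain ⟨m⟩ := Cfsg.Agent.H834.Bridge.model_of_iso e (D := TK e) rfl
  rcases kind e hx hx1 hd with h | h | ⟨P, hP⟩
  · exfalso
    obtain ⟨E, h1, h2, h3⟩ := exists_six' m h hd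
    exact hQ ⟨E, h1, h2, by omega⟩
  · exact h
  · exfalso
    obtain ⟨E, h1, h2, h3⟩ := Multi.exists_clq' I.ctx.sq hd hP
    exact hQ ⟨E, h1, h2, by omega⟩

/-- `¬ Q` goes to neighbours -/
theorem not_Q_nbr {x d s : K} (hx : x ^ 3 = 1) (hx1 : x ≠ 1) (hd : d ∈ Fx (TK e) x) (hs : s ∈ Fx (TK e) x)
    (hds : d * s = s * d) (hQ : ¬ Q (TK e) x d) : ¬ Q (TK e) x s := by
  have I := inv_of_iso e
  have hfin := I.ctx.finite
  obtain ⟨m⟩ := Cfsg.Agent.H834.Bridge.model_of_iso e (D := TK e) rfl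
  by_cases hsd : s = d
  · rw [hsd]; exact hQ
  rcases kind e hx hx1 hs with h | ⟨P, hP⟩ | ⟨P, hP⟩
  · exfalso
    obtain ⟨E, h1, h2, h3, h4⟩ := exists_six m h hd hs (fun h => hsd h.symm) hds
    exact hQ ⟨E, h1, h2, by omega⟩
  · rintro ⟨E, h1, h2, h3⟩
    have := Multi.le hP h1 h2
    omega
  · exfalso
    obtain ⟨E, h1, h2, h3, h4⟩ := Multi.exists_clq I.ctx.sq hs hP hd (fun h => hsd h.symm) hds.symm
    exact hQ ⟨E, h1, h3, by omega⟩

/-- `¬ Q` for one transposition implies `¬ Q` for all -/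
theorem not_Q_all {x d s : K} (hx : x ^ 3 = 1) (hx1 : x ≠ 1) (hd : d ∈ Fx (TK e) x) (hQ : ¬ Q (TK e) x d)
    (hs : s ∈ Fx (TK e) x) : ¬ Q (TK e) x s := by
  have I := inv_of_iso e
  have hfin := I.ctx.finite
  obtain ⟨P, hP⟩ := two_of_not_Q e hx hx1 hd hQ
  obtain ⟨b, c, hb, hc, hbd, hcd, hbc, cdb, cdc, cbc⟩ := Multi.exists_pair hP
  by_cases h1 : d * s = s * d
  · exact not_Q_nbr e hx hx1 hd hs h1 hQ
  by_cases h2 : b * s = s * b
  · exact not_Q_nbr e hx hx1 hb hs h2 (not_Q_nbr e hx hx1 hd hb cdb hQ)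
  by_cases h3 : c * s = s * c
  · exact not_Q_nbr e hx hx1 hc hs h3 (not_Q_nbr e hx hx1 hd hc cdc hQ)
  exfalso
  have dd := I.ctx.sq d hd.1
  have bb := I.ctx.sq b hb.1
  have cc := I.ctx.sq c hc.1
  have ss := I.ctx.sq s hs.1
  have br1 := (I.ctx.three d hd.1 s hs.1).resolve_left h1
  have br2 := (I.ctx.three b hb.1 s hs.1).resolve_left h2
  have br3 := (I.ctx.three c hc.1 s hs.1).resolve_left h3
  set f := s * (d * b * c) * s * (d * b * c) * s with hf
  have z1 : b * c * d = d * b * c := by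
    calc b * c * d = b * (c * d) := by group
      _ = b * (d * c) := by rw [cdc]
      _ = (b * d) * c := by group
      _ = d * b * c := by rw [cdb]
  have z2 : c * d * b = d * b * c := by
    calc c * d * b = (c * d) * b := by group
      _ = d * (c * b) := by rw [← cdc]; group
      _ = d * b * c := by rw [← cbc]; group
  have k1 : d * f = f * d := d4_comm dd bb cc ss cdb cdc cbc br1 br2 br3
  have k2 : b * f = f * b := by
    have := d4_comm (a := b) (b := c) (c := d) (t := s) bb cc dd ss cbc cdb.symm cdc.symm br2 br3 br1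
    rwa [z1] at this
  have k3 : c * f = f * c := by
    have := d4_comm (a := c) (b := d) (c := b) (t := s) cc dd bb ss cdc.symm cbc.symm cdb br3 br1 br2
    rwa [z2] at this
  have n1 : f ≠ d := by
    intro h
    have h4 := d4_ne dd bb cc ss cdb cdc cbc br1 h
    exact h2 (I.comm_of_pair hb.1 hc.1 hs.1 hbc cbc h4).1.symm
  have n2 : f ≠ b := by
    intro h
    have h4 := d4_ne (a := b) (b := c) (c := d) (t := s) bb cc dd ss cbc cdb.symm cdc.symm br2 (by rw [z1]; exact h)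
    exact h3 (I.comm_of_pair hc.1 hd.1 hs.1 hcd cdc.symm h4).1.symm
  have n3 : f ≠ c := by
    intro h
    have h4 := d4_ne (a := c) (b := d) (c := b) (t := s) cc dd bb ss cdc.symm cbc.symm cdb br3 (by rw [z2]; exact h)
    exact h1 (I.comm_of_pair hd.1 hb.1 hs.1 hbd.symm cdb h4).1.symm
  -- `f` is a transposition commuting with `x`
  have hfT : f ∈ TK e := by
    have h4 : f = (s * (d * b * c)) * s * (s * (d * b * c))⁻¹ := by
      have h5 : (d * b * c)⁻¹ = d * b * c := by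
        rw [mul_inv_rev, mul_inv_rev, I.ctx.inv hc.1, I.ctx.inv hb.1, I.ctx.inv hd.1]
        calc c * (b * d) = c * (d * b) := by rw [cdb]
          _ = c * d * b := by group
          _ = d * b * c := z2
      rw [mul_inv_rev, h5, I.ctx.inv hs.1, hf]
      group
    rw [h4]
    exact I.ctx.conj s hs.1 _
  have hfx : x * f = f * x := by
    have c1 : Commute x s := hs.2
    have c2 : Commute x (d * b * c) := ((show Commute x d from hd.2).mul_right hb.2).mul_right hc.2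
    exact ((((c1.mul_right c2).mul_right c1).mul_right c2).mul_right c1).eq
  apply hQ
  refine ⟨{f, d, b, c}, ⟨?_, ?_⟩, by simp, ?_⟩
  · rintro y (rfl | rfl | rfl | rfl)
    · exact ⟨hfT, hfx⟩
    · exact hd
    · exact hb
    · exact hc
  · rintro y (rfl | rfl | rfl | rfl) z (rfl | rfl | rfl | rfl)
    all_goals first | rfl | assumption | (symm; assumption)
  · rw [Set.ncard_insert_of_notMem, Set.ncard_insert_of_notMem, Set.ncard_pair hbc]
    · simp [hbd.symm, hcd.symm]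
    · simp [n1, n2, n3]

/-- **an element of order three commutes with at most six commuting transpositions** -/
theorem clq_le {x : K} (hx : x ^ 3 = 1) (hx1 : x ≠ 1) {E : Set K} (hE : Clq (TK e) x E) : E.ncard ≤ 6 := by
  have I := inv_of_iso e
  have hfin := I.ctx.finite
  obtain ⟨m⟩ := Cfsg.Agent.H834.Bridge.model_of_iso e (D := TK e) rfl
  by_cases h0 : E = ∅
  · rw [h0, Set.ncard_empty]; omega
  obtain ⟨d, hd⟩ := Set.nonempty_iff_ne_empty.2 h0
  rcases kind e hx hx1 (hE.sub hd) with h | ⟨P, hP⟩ | ⟨P, hP⟩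
  · rw [← width_three m h]
    exact le_commutingWidth hE.sub hE.comm
  · have := Multi.le hP hE hd
    omega
  · have := Multi.le hP hE hd
    omega

/-- the width for the kind with three parts -/
theorem width_of_three {x d : K} (hx : x ^ 3 = 1) (hx1 : x ≠ 1) (hd : d ∈ Fx (TK e) x)
    {P : Fin 3 → K → Prop} (hP : Multi (TK e) x d 3 P) : Cfsg.commutingWidth (Fx (TK e) x) = 4 := by
  have I := inv_of_iso e
  have hfin := I.ctx.finite
  obtain ⟨m⟩ := Cfsg.Agent.H834.Bridge.model_of_iso e (D := TK e) rfl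
  obtain ⟨E0, h1, h2, h3⟩ := Multi.exists_clq' I.ctx.sq hd hP
  apply commutingWidth_eq
  · exact ⟨E0, h1.sub, h1.comm, h3⟩
  · intro E hE hc
    have hE' : Clq (TK e) x E := ⟨hE, hc⟩
    by_cases h0 : E = ∅
    · rw [h0, Set.ncard_empty]; omega
    obtain ⟨s, hs⟩ := Set.nonempty_iff_ne_empty.2 h0
    rcases kind e hx hx1 (hE hs) with h | ⟨P', hP'⟩ | ⟨P', hP'⟩
    · exfalso
      obtain ⟨E1, h4, h5, h6⟩ := exists_six' m h hd
      have := Multi.le hP h4 h5
      omega
    · have := Multi.le hP' hE' hs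
      omega
    · exact Multi.le hP' hE' hs

/-- the width for the kind with two parts -/
theorem width_of_two {x d : K} (hx : x ^ 3 = 1) (hx1 : x ≠ 1) (hd : d ∈ Fx (TK e) x)
    {P : Fin 2 → K → Prop} (hP : Multi (TK e) x d 2 P) : Cfsg.commutingWidth (Fx (TK e) x) = 3 := by
  have I := inv_of_iso e
  have hfin := I.ctx.finite
  have hQ : ¬ Q (TK e) x d := by
    rintro ⟨E, h1, h2, h3⟩
    have := Multi.le hP h1 h2
    omega
  obtain ⟨b, c, hb, hc, hbd, hcd, hbc, cdb, cdc, cbc⟩ := Multi.exists_pair hP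
  apply commutingWidth_eq
  · refine ⟨{d, b, c}, ?_, ?_, ?_⟩
    · rintro y (rfl | rfl | rfl)
      · exact hd
      · exact hb
      · exact hc
    · rintro y (rfl | rfl | rfl) z (rfl | rfl | rfl)
      all_goals first | exact Commute.refl _ | assumption | (apply Commute.symm; assumption)
    · rw [Set.ncard_insert_of_notMem, Set.ncard_pair hbc]
      simp [hbd.symm, hcd.symm]
  · intro E hE hc
    have hE' : Clq (TK e) x E := ⟨hE, hc⟩
    by_cases h0 : E = ∅
    · rw [h0, Set.ncard_empty]; omega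
    obtain ⟨s, hs⟩ := Set.nonempty_iff_ne_empty.2 h0
    by_contra hcon
    exact not_Q_all e hx hx1 hd hQ (hE hs) ⟨E, hE', hs, by omega⟩

end main

end Cfsg.Agent.H835.Kind
end

-- part: H835/Hex
section
/-!
# `Fi22`: elements of order three commuting with no transposition (helper835)

`Hexd T p B` : the hexad `p 0, …, p 5` of three commuting transpositions `p 0, p 1, p 2` and the three blocks `B j` of 16
transpositions commuting with the hexad. `Pat p B g q` : conjugation by `g` acts on the hexad and on the blocks by `q`.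
-/

set_option autoImplicit false
set_option linter.unusedSectionVars false
set_option linter.unusedVariables false

namespace Cfsg.Agent.H835.Hex

open Cfsg Cfsg.Agent.LThreeFi22 Cfsg.Agent.H836 Subgroup
open Cfsg.Agent.KFacts.FiTT (TK)
open Cfsg.Agent.R01.FiFusion (Tri)

universe v

variable {K : Type v} [Group K] {T : Set K}

/-- a hexad and its three blocks -/
structure Hexd (T : Set K) (p : Fin 6 → K) (B : Fin 3 → Set K) : Prop where
  pT : ∀ i, p i ∈ T
  pinj : Function.Injective p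
  pp : ∀ i j, p i * p j = p j * p i
  BT : ∀ j, ∀ s ∈ B j, s ∈ T
  Bcard : ∀ j, (B j).ncard = 16
  pB : ∀ i j, ∀ s ∈ B j, p i * s = s * p i
  BB : ∀ i j, ∀ s ∈ B i, ∀ t ∈ B j, (s * t = t * s ↔ i = j)
  all : ∀ t ∈ T, p 0 * t = t * p 0 → p 1 * t = t * p 1 → p 2 * t = t * p 2 → (∃ i, t = p i) ∨ ∃ j, t ∈ B j

/-- conjugation by `g` acts on the hexad and on the blocks by `q` -/
structure Pat (p : Fin 6 → K) (B : Fin 3 → Set K) (g : K) (q : Equiv.Perm (Fin 6) × Equiv.Perm (Fin 3)) : Prop where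
  hp : ∀ i, g * p i * g⁻¹ = p (q.1 i)
  hB : ∀ j, ∀ s ∈ B j, g * s * g⁻¹ ∈ B (q.2 j)

variable {p : Fin 6 → K} {B : Fin 3 → Set K}

theorem Pat.one : Pat p B 1 1 := by
  refine ⟨fun i => ?_, fun j s hs => ?_⟩
  · simp
  · simpa using hs

theorem Pat.mul {g h : K} {q r : Equiv.Perm (Fin 6) × Equiv.Perm (Fin 3)} (h1 : Pat p B g q) (h2 : Pat p B h r) :
    Pat p B (g * h) (q * r) := by
  refine ⟨fun i => ?_, fun j s hs => ?_⟩
  · calc g * h * p i * (g * h)⁻¹ = g * (h * p i * h⁻¹) * g⁻¹ := by group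
      _ = p ((q * r).1 i) := by rw [h2.hp, h1.hp]; rfl
  · have : g * h * s * (g * h)⁻¹ = g * (h * s * h⁻¹) * g⁻¹ := by group
    rw [this]
    exact h1.hB _ _ (h2.hB _ _ hs)

namespace Hexd

variable (H : Hexd T p B)
include H

theorem nonempty (j : Fin 3) : (B j).Nonempty := by
  by_contra h
  rw [Set.not_nonempty_iff_eq_empty] at h
  have := H.Bcard j
  rw [h, Set.ncard_empty] at this
  omega

theorem ne_other (j : Fin 3) : ∃ k : Fin 3, j ≠ k := by
  revert j
  decide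

theorem p_notMem (i : Fin 6) (j : Fin 3) : p i ∉ B j := by
  intro h
  obtain ⟨k, hk⟩ := H.ne_other j
  obtain ⟨s, hs⟩ := H.nonempty k
  exact hk ((H.BB j k _ h s hs).1 (H.pB i k s hs))

/-- the transpositions commuting with the hexad -/
def M (T : Set K) (p : Fin 6 → K) : Set K := {t | t ∈ T ∧ p 0 * t = t * p 0 ∧ p 1 * t = t * p 1 ∧ p 2 * t = t * p 2}

theorem mem_M {t : K} : t ∈ M T p ↔ (∃ i, t = p i) ∨ ∃ j, t ∈ B j := by
  constructor
  · rintro ⟨h1, h2, h3, h4⟩
    exact H.all t h1 h2 h3 h4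
  · rintro (⟨i, rfl⟩ | ⟨j, hj⟩)
    · exact ⟨H.pT i, H.pp _ _, H.pp _ _, H.pp _ _⟩
    · exact ⟨H.BT j t hj, H.pB _ _ _ hj, H.pB _ _ _ hj, H.pB _ _ _ hj⟩

theorem hex_iff {t : K} (ht : t ∈ M T p) : (∃ i, t = p i) ↔ ∀ s ∈ M T p, t * s = s * t := by
  constructor
  · rintro ⟨i, rfl⟩ s hs
    rcases H.mem_M.1 hs with ⟨j, rfl⟩ | ⟨j, hj⟩
    · exact H.pp _ _
    · exact H.pB _ _ _ hj
  · intro h
    rcases H.mem_M.1 ht with h1 | ⟨j, hj⟩
    · exact h1
    · exfalso
      obtain ⟨k, hk⟩ := H.ne_other j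
      obtain ⟨s, hs⟩ := H.nonempty k
      exact hk ((H.BB j k t hj s hs).1 (h s (H.mem_M.2 (Or.inr ⟨k, hs⟩))))

theorem uniq {g : K} {q r : Equiv.Perm (Fin 6) × Equiv.Perm (Fin 3)} (h1 : Pat p B g q) (h2 : Pat p B g r) : q = r := by
  refine Prod.ext (Equiv.ext fun i => H.pinj ?_) (Equiv.ext fun j => ?_)
  · rw [← h1.hp, ← h2.hp]
  · obtain ⟨s, hs⟩ := H.nonempty j
    exact (H.BB _ _ _ (h1.hB j s hs) _ (h2.hB j s hs)).1 rfl

theorem inv [Finite K] {g : K} {q : Equiv.Perm (Fin 6) × Equiv.Perm (Fin 3)} (h1 : Pat p B g q) : Pat p B g⁻¹ q⁻¹ := by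
  refine ⟨fun i => ?_, fun j s hs => ?_⟩
  · have h2 := h1.hp (q⁻¹.1 i)
    have h3 : q.1 (q⁻¹.1 i) = i := by
      show q.1 (q.1⁻¹ i) = i
      rw [← Equiv.Perm.mul_apply, mul_inv_cancel, Equiv.Perm.one_apply]
    rw [h3] at h2
    rw [← h2]
    group
  · have h3 : q.2 (q⁻¹.2 j) = j := by
      show q.2 (q.2⁻¹ j) = j
      rw [← Equiv.Perm.mul_apply, mul_inv_cancel, Equiv.Perm.one_apply]
    have h4 : (MulAut.conj g) '' (B (q⁻¹.2 j)) = B j := by
      apply Set.eq_of_subset_of_ncard_le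
      · rintro _ ⟨t, ht, rfl⟩
        have := h1.hB _ t ht
        rwa [h3] at this
      · rw [Set.ncard_image_of_injective _ (MulAut.conj g).injective, H.Bcard, H.Bcard]
      · exact Set.toFinite _
    rw [← h4] at hs
    obtain ⟨t, ht, rfl⟩ := hs
    have : g⁻¹ * (MulAut.conj g) t * g⁻¹⁻¹ = t := by
      rw [MulAut.conj_apply]; group
    rw [this]
    exact ht

theorem pow {g : K} {q : Equiv.Perm (Fin 6) × Equiv.Perm (Fin 3)} (h1 : Pat p B g q) (n : ℕ) :
    Pat p B (g ^ n) (q ^ n) := by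
  induction n with
  | zero => rw [pow_zero, pow_zero]; exact Pat.one
  | succ n ih => rw [pow_succ, pow_succ]; exact ih.mul h1

/-- **an element stabilising `M` has a pattern** -/
theorem exists_pat {y : K} (hM : ∀ t, t ∈ M T p ↔ y * t * y⁻¹ ∈ M T p) : ∃ q, Pat p B y q := by
  -- the inverse of the conjugation
  have hsurj : ∀ t ∈ M T p, ∃ s ∈ M T p, y * s * y⁻¹ = t := by
    intro t ht
    refine ⟨y⁻¹ * t * y, (hM _).2 ?_, by group⟩
    have : y * (y⁻¹ * t * y) * y⁻¹ = t := by group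
    rwa [this]
  have h1 : ∀ i, ∃ k, y * p i * y⁻¹ = p k := by
    intro i
    have hi : p i ∈ M T p := H.mem_M.2 (Or.inl ⟨i, rfl⟩)
    have hyi := (hM _).1 hi
    refine (H.hex_iff hyi).2 fun s hs => ?_
    obtain ⟨t, ht, rfl⟩ := hsurj s hs
    rw [conj_comm_iff]
    exact (H.hex_iff hi).1 ⟨i, rfl⟩ t ht
  choose σ hσ using h1
  have hσi : Function.Injective σ := by
    intro i j hij
    apply H.pinj
    have : y * p i * y⁻¹ = y * p j * y⁻¹ := by rw [hσ, hσ, hij]
    exact mul_left_cancel (mul_right_cancel this)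
  have h2 : ∀ j, ∃ k, ∀ s ∈ B j, y * s * y⁻¹ ∈ B k := by
    intro j
    have h3 : ∀ s ∈ B j, ∃ k, y * s * y⁻¹ ∈ B k := by
      intro s hs
      have hsM : s ∈ M T p := H.mem_M.2 (Or.inr ⟨j, hs⟩)
      rcases H.mem_M.1 ((hM s).1 hsM) with h | h
      · exfalso
        have h4 := (H.hex_iff ((hM s).1 hsM)).1 h
        obtain ⟨i, hi⟩ := (H.hex_iff hsM).2 fun t ht => by
          have := h4 _ ((hM t).1 ht)
          rwa [conj_comm_iff] at this
        rw [hi] at hs
        exact H.p_notMem i j hs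
      · exact h
    obtain ⟨s0, hs0⟩ := H.nonempty j
    obtain ⟨k, hk⟩ := h3 s0 hs0
    refine ⟨k, fun s hs => ?_⟩
    obtain ⟨l, hl⟩ := h3 s hs
    have h5 : y * s0 * y⁻¹ * (y * s * y⁻¹) = y * s * y⁻¹ * (y * s0 * y⁻¹) := by
      rw [conj_comm_iff]
      exact (H.BB j j _ hs0 _ hs).2 rfl
    rw [(H.BB k l _ hk _ hl).1 h5]
    exact hl
  choose β hβ using h2
  have hβi : Function.Injective β := by
    intro i j hij
    obtain ⟨s, hs⟩ := H.nonempty i
    obtain ⟨t, ht⟩ := H.nonempty j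
    refine (H.BB i j s hs t ht).1 ?_
    rw [← conj_comm_iff y]
    exact (H.BB (β i) (β j) _ (hβ i s hs) _ (hβ j t ht)).2 hij
  exact ⟨(Equiv.ofBijective σ (Finite.injective_iff_bijective.1 hσi),
    Equiv.ofBijective β (Finite.injective_iff_bijective.1 hβi)), ⟨fun i => hσ i, fun j s hs => hβ j s hs⟩⟩

end Hexd

/-- the first hexad permutation -/
def S1 : Equiv.Perm (Fin 6) := ⟨![1, 2, 0, 4, 5, 3], ![2, 0, 1, 5, 3, 4], by decide, by decide⟩
/-- the second hexad permutation -/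
def S2 : Equiv.Perm (Fin 6) := ⟨![1, 2, 0, 5, 3, 4], ![2, 0, 1, 4, 5, 3], by decide, by decide⟩
/-- the permutation of the blocks -/
def b0 : Equiv.Perm (Fin 3) := ⟨![2, 0, 1], ![1, 2, 0], by decide, by decide⟩
/-- the other permutation of the blocks -/
def b1 : Equiv.Perm (Fin 3) := ⟨![1, 2, 0], ![2, 0, 1], by decide, by decide⟩
/-- the interchange of the halves of the hexad -/
def sx : Equiv.Perm (Fin 6) := ⟨![3, 4, 5, 1, 0, 2], ![4, 3, 5, 0, 1, 2], by decide, by decide⟩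
/-- the transposition of the blocks -/
def tx : Equiv.Perm (Fin 3) := ⟨![0, 2, 1], ![0, 2, 1], by decide, by decide⟩

theorem perm_cases (σ : Equiv.Perm (Fin 6)) (h0 : σ 0 = 1) (h1 : σ 1 = 2) (h2 : σ 2 = 0) (h : ∀ i, σ i ≠ i) :
    σ = S1 ∨ σ = S2 := by
  have key : ∀ x y z : Fin 6, x ≠ 0 → x ≠ 1 → x ≠ 2 → x ≠ 3 → y ≠ 0 → y ≠ 1 → y ≠ 2 → y ≠ 4 →
      z ≠ 0 → z ≠ 1 → z ≠ 2 → z ≠ 5 → x ≠ y → x ≠ z → y ≠ z →
      (x = 4 ∧ y = 5 ∧ z = 3) ∨ (x = 5 ∧ y = 3 ∧ z = 4) := by decide +kernel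
  have hne : ∀ i j, i ≠ j → σ i ≠ σ j := fun i j hij e => hij (σ.injective e)
  have h6 := key (σ 3) (σ 4) (σ 5)
    (by rw [← h2]; exact hne _ _ (by decide)) (by rw [← h0]; exact hne _ _ (by decide))
    (by rw [← h1]; exact hne _ _ (by decide)) (h 3)
    (by rw [← h2]; exact hne _ _ (by decide)) (by rw [← h0]; exact hne _ _ (by decide))
    (by rw [← h1]; exact hne _ _ (by decide)) (h 4)
    (by rw [← h2]; exact hne _ _ (by decide)) (by rw [← h0]; exact hne _ _ (by decide))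
    (by rw [← h1]; exact hne _ _ (by decide)) (h 5)
    (hne _ _ (by decide)) (hne _ _ (by decide)) (hne _ _ (by decide))
  rcases h6 with ⟨h3, h4, h5⟩ | ⟨h3, h4, h5⟩
  · left
    ext i
    fin_cases i
    · exact congrArg _ h0
    · exact congrArg _ h1
    · exact congrArg _ h2
    · exact congrArg _ h3
    · exact congrArg _ h4
    · exact congrArg _ h5
  · right
    ext i
    fin_cases i
    · exact congrArg _ h0
    · exact congrArg _ h1
    · exact congrArg _ h2
    · exact congrArg _ h3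
    · exact congrArg _ h4
    · exact congrArg _ h5

theorem block_cases : ∀ β : Equiv.Perm (Fin 3), (∀ j, β j ≠ j) → β = b0 ∨ β = b1 := by
  decide

section main

variable (e : K ≃* Spor.Fi22)

/-- an element of order three does not fix the hexad and the blocks -/
theorem no_three (H : Hexd (TK e) p B) {x : K} (hx : x ^ 3 = 1) (h : Pat p B x 1) : x = 1 := by
  by_contra hx1
  have I := inv_of_iso e
  have hfin := I.ctx.finite
  have h1 := fix_modEq (r := 3) Nat.prime_three hx (S := B 0) (fun s hs => h.hB 0 s hs)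
  have h2 : {s | s ∈ B 0 ∧ x * s = s * x}.ncard ≠ 0 := by
    intro h0
    rw [h0, H.Bcard] at h1
    revert h1
    decide
  obtain ⟨s, hs, hxs⟩ : ∃ s, s ∈ B 0 ∧ x * s = s * x := by
    by_contra hcon
    apply h2
    rw [Set.ncard_eq_zero]
    ext s
    exact ⟨fun hs => hcon ⟨s, hs⟩, fun hs => absurd hs (Set.notMem_empty s)⟩
  have h3 : Kind.Clq (TK e) x (insert s (Set.range p)) := by
    refine ⟨?_, ?_⟩
    · rintro t (rfl | ⟨i, rfl⟩)
      · exact ⟨H.BT 0 _ hs, hxs⟩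
      · exact ⟨H.pT i, mul_inv_eq_iff_eq_mul.1 (h.hp i)⟩
    · rintro t (rfl | ⟨i, rfl⟩) t' (rfl | ⟨j, rfl⟩)
      · rfl
      · exact (H.pB _ _ _ hs).symm
      · exact H.pB _ _ _ hs
      · exact H.pp _ _
  have h4 := Kind.clq_le e hx hx1 h3
  have h5 : (Set.range p).ncard = 6 := by
    rw [← Set.image_univ, Set.ncard_image_of_injective _ H.pinj, Set.ncard_univ, Nat.card_eq_fintype_card,
      Fintype.card_fin]
  rw [Set.ncard_insert_of_notMem, h5] at h4
  · omega
  · rintro ⟨i, rfl⟩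
    exact H.p_notMem _ _ hs

/-- the group of the elements with pattern in a cyclic group -/
def HH [Finite K] (H : Hexd T p B) (q : Equiv.Perm (Fin 6) × Equiv.Perm (Fin 3)) : Subgroup K where
  carrier := {g | ∃ k : ℤ, Pat p B g (q ^ k)}
  one_mem' := ⟨0, by rw [zpow_zero]; exact Pat.one⟩
  mul_mem' := by
    rintro a b ⟨k, hk⟩ ⟨l, hl⟩
    exact ⟨k + l, by rw [zpow_add]; exact hk.mul hl⟩
  inv_mem' := by
    rintro a ⟨k, hk⟩
    exact ⟨-k, by rw [zpow_neg]; exact H.inv hk⟩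

theorem mem_HH [Finite K] (H : Hexd T p B) {q : Equiv.Perm (Fin 6) × Equiv.Perm (Fin 3)} (hq : q ^ 3 = 1) {g : K}
    (hg : g ∈ HH H q) : Pat p B g 1 ∨ Pat p B g q ∨ Pat p B g (q ^ 2) := by
  obtain ⟨k, hk⟩ := hg
  have h1 : q ^ k = q ^ (k % 3) := by
    conv_lhs => rw [← Int.emod_add_mul_ediv k 3, zpow_add, zpow_mul]
    have : q ^ (3 : ℤ) = 1 := by exact_mod_cast hq
    rw [this, one_zpow, mul_one]
  rw [h1] at hk
  have h2 : k % 3 = 0 ∨ k % 3 = 1 ∨ k % 3 = 2 := by omega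
  rcases h2 with h | h | h
  · left
    rw [h, zpow_zero] at hk
    exact hk
  · right; left
    rw [h, zpow_one] at hk
    exact hk
  · right; right
    rw [h] at hk
    exact_mod_cast hk

/-- **subgroups of order three with the same pattern are conjugate** -/
theorem conj_of_pat (H : Hexd (TK e) p B) {q : Equiv.Perm (Fin 6) × Equiv.Perm (Fin 3)} (hq : q ^ 3 = 1)
    (h0 : q.1 0 = 1) (h1 : q.1 1 = 2) {y y' : K} (hy : y ^ 3 = 1) (hy' : y' ^ 3 = 1) (hp : Pat p B y q)
    (hp' : Pat p B y' q) : ∃ g : K, (zpowers y).map (MulAut.conj g).toMonoidHom = zpowers y' := by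
  have I := inv_of_iso e
  have hfin := I.ctx.finite
  have hne : ∀ {z : K}, Pat p B z q → z ≠ 1 := by
    rintro z hz rfl
    have h2 := H.uniq hz Pat.one
    rw [h2] at h0
    revert h0
    decide
  have hcard : ∀ {z : K}, z ^ 3 = 1 → Pat p B z q → Nat.card ↥(zpowers z) = 3 := by
    intro z hz hpz
    rw [Nat.card_zpowers]
    exact orderOf_eq_prime hz (hne hpz)
  have hmem : ∀ {z : K}, Pat p B z q → zpowers z ≤ HH H q := by
    intro z hpz
    rw [zpowers_le]
    exact ⟨1, by rw [zpow_one]; exact hpz⟩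
  have h9 : ¬ 3 ^ 2 ∣ Nat.card ↥(HH H q) := by
    intro h9
    have h2 := orbit_card (HH H q) (p 0) (S := {p 0, p 1, p 2}) (by
      intro x
      constructor
      · rintro (rfl | rfl | rfl)
        · exact ⟨1, one_mem _, by group⟩
        · exact ⟨y, ⟨1, by rw [zpow_one]; exact hp⟩, by rw [hp.hp, h0]⟩
        · refine ⟨y ^ 2, ⟨2, ?_⟩, ?_⟩
          · have := H.pow hp 2
            exact_mod_cast this
          · rw [(H.pow hp 2).hp]
            show _ = p ((q.1 ^ 2) 0)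
            rw [pow_two, Equiv.Perm.mul_apply, h0, h1]
      · rintro ⟨h, hh, rfl⟩
        rcases mem_HH H hq hh with h3 | h3 | h3
        · left; rw [h3.hp]; rfl
        · right; left; rw [h3.hp, h0]
        · right; right
          rw [h3.hp]
          show p ((q.1 ^ 2) 0) = p 2
          rw [pow_two, Equiv.Perm.mul_apply, h0, h1])
    have h3 : ({p 0, p 1, p 2} : Set K).ncard = 3 := by
      rw [Set.ncard_insert_of_notMem, Set.ncard_pair]
      · intro h; exact absurd (H.pinj h) (by decide)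
      · rintro (h | h)
        · exact absurd (H.pinj h) (by decide)
        · exact absurd (H.pinj h) (by decide)
    rw [h3] at h2
    have h4 : 3 ∣ Nat.card ↥(HH H q ⊓ centralizer ({p 0} : Set K)) := by
      rw [← h2] at h9
      omega
    have := Fact.mk Nat.prime_three
    obtain ⟨⟨x, hxH, hxc⟩, hx⟩ := exists_prime_orderOf_dvd_card' 3 h4
    have hx3 : x ^ 3 = 1 := by
      have := pow_orderOf_eq_one (⟨x, hxH, hxc⟩ : ↥(HH H q ⊓ centralizer ({p 0} : Set K)))
      rw [hx] at this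
      exact congrArg Subtype.val this
    have hx1 : x ≠ 1 := by
      rintro rfl
      have h5 : (⟨1, hxH, hxc⟩ : ↥(HH H q ⊓ centralizer ({p 0} : Set K))) = 1 := rfl
      rw [h5, orderOf_one] at hx
      omega
    have hxc' : x * p 0 * x⁻¹ = p 0 := mul_inv_eq_iff_eq_mul.2 (mem_centralizer_singleton_iff.1 hxc)
    rcases mem_HH H hq hxH with h3 | h3 | h3
    · exact hx1 (no_three e H hx3 h3)
    · rw [h3.hp, h0] at hxc'
      exact absurd (H.pinj hxc') (by decide)
    · rw [h3.hp] at hxc'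
      have h5 : (q ^ 2).1 0 = 2 := by
        show (q.1 ^ 2) 0 = 2
        rw [pow_two, Equiv.Perm.mul_apply, h0, h1]
      rw [h5] at hxc'
      exact absurd (H.pinj hxc') (by decide)
  obtain ⟨g, -, hg⟩ := Five.conj_in Nat.prime_three h9 (hcard hy hp) (hcard hy' hp') (hmem hp) (hmem hp')
  exact ⟨g, hg⟩

/-- elements of order three in `Fi22` -/
theorem three {g : K} (hg : g ^ 3 = 1) :
    ∃ a ∈ TK e, g * a = a * g ∨ (a ≠ g * a * g⁻¹ ∧ a * (g * a * g⁻¹) = (g * a * g⁻¹) * a) := by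
  obtain ⟨h, hh⟩ := Cfsg.Agent.R01.Fi22Facts.E.surjective (e g)
  have h3 : h ^ 3 = 1 := by
    apply Cfsg.Agent.R01.Fi22Facts.E.injective
    rw [map_pow, hh, ← map_pow, hg, map_one, map_one]
  rcases Cfsg.Agent.LThreeM.FiTwo.three h3 with ⟨x, hx⟩ | ⟨x, h1, -⟩
  · refine ⟨e.symm (Cfsg.Agent.R01.Fi22Facts.E (Cfsg.Agent.Fischer.Rank22.R.t x)), ?_, Or.inl ?_⟩
    · rw [Inst.mem_TK, MulEquiv.apply_symm_apply]
      exact Cfsg.Agent.R01.Fi22Facts.mem_T_iff.2 ⟨x, rfl⟩
    · apply e.injective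
      rw [map_mul, map_mul, MulEquiv.apply_symm_apply, ← hh, ← map_mul, ← map_mul, hx]
  · refine ⟨e.symm (Cfsg.Agent.R01.Fi22Facts.E (Cfsg.Agent.Fischer.Rank22.R.t x)), ?_, Or.inr ?_⟩
    · rw [Inst.mem_TK, MulEquiv.apply_symm_apply]
      exact Cfsg.Agent.R01.Fi22Facts.mem_T_iff.2 ⟨x, rfl⟩
    · have hE := Cfsg.Agent.R01.Fi22Facts.E_smul (k := h) (x := x)
      have hE' : e (g * e.symm (Cfsg.Agent.R01.Fi22Facts.E (Cfsg.Agent.Fischer.Rank22.R.t x)) * g⁻¹) =
          Cfsg.Agent.R01.Fi22Facts.E (Cfsg.Agent.Fischer.Rank22.R.t (h • x)) := by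
        rw [map_mul, map_mul, map_inv, MulEquiv.apply_symm_apply, ← hh, hE]
      constructor
      · intro h2
        have h4 := congrArg e h2
        rw [hE', MulEquiv.apply_symm_apply] at h4
        have h2 := Cfsg.Agent.R01.Fi22Facts.E.injective h4
        exact h1.1 (Cfsg.Agent.Fischer.Rank22.R.t_injective h2)
      · have hm : ∀ u v : K, e u * e v = e v * e u → u * v = v * u :=
          fun u v h => e.injective (by rw [map_mul, map_mul, h])
        apply hm
        rw [hE', MulEquiv.apply_symm_apply, ← map_mul, ← map_mul]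
        exact congrArg _ h1.2

end main

end Cfsg.Agent.H835.Hex
end

-- part: H835/HexChk
section
/-!
# `Fi22`: a hexad and its blocks (helper835)

`hexd` : for a model `m`, the points 3, 7, 30, 342, 507, 353 and three lists of 16 points give a `Hexd`.
`y0`, `gs`, `tq` : elements with patterns `(S1, b0)`, `(sx, 1)`, `(1, tx)`.
-/

set_option autoImplicit false
set_option maxRecDepth 100000
set_option exponentiation.threshold 5000
set_option linter.unusedVariables false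

namespace Cfsg.Agent.H835.HexChk

open Cfsg.Spor Cfsg.Spor.Fi22 Cfsg.Agent.Lib.PermNet Cfsg.Agent.Lib.PermNetOrbit Cfsg.Agent.Lib.PermNetFix
open Cfsg.Agent.Fischer Cfsg.Agent.Fischer.Fi22PtsRep Cfsg.Agent.H834 Cfsg.Agent.H835.Hex


/-- the points of the hexad with their words -/
def LP : List (ℕ × List Gen × Gen) := [
  (3, [.c, .b], .a),
  (7, [.d, .c], .b),
  (30, [.i, .h, .d], .c),
  (342, [.i, .e, .f, .d, .e, .b, .c, .d, .h, .g, .f, .e, .d, .c, .b], .a),
  (507, [.i, .d, .h, .e, .f, .d, .e, .c, .d, .h, .g, .f, .e, .d, .c], .b),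
  (353, [.i, .h, .e, .f, .d, .e, .c, .d, .h, .g, .f, .e, .d, .c, .b], .a)]

/-- the points of the block 0 with their words -/
def LB0 : List (ℕ × List Gen × Gen) := [
  (17, [.e, .d], .c),
  (34, [.i, .h, .e, .d, .c], .b),
  (39, [.i, .d, .h, .e, .d, .c, .b], .a),
  (154, [], .g),
  (202, [.i, .f, .e, .c, .d, .h, .g, .f, .e, .d, .c], .b),
  (222, [.i, .f, .d, .e, .c, .d, .h, .g, .f, .e, .d, .c, .b], .a),
  (343, [.i, .h, .f, .d, .e, .b, .c, .d, .h, .g, .f, .e, .d, .c, .b], .a),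
  (392, [.h, .d, .e, .c, .d, .h, .i, .b, .c, .d, .h, .e, .d, .c, .b], .a),
  (1429, [.h, .c, .d, .e, .b, .c, .d, .h, .i, .f, .d, .e, .b, .c, .d, .h, .g, .f, .e, .d, .c, .b], .a),
  (1722, [.h, .c, .d, .e, .b, .c, .d, .h, .i, .e, .f, .c, .d, .e, .b, .c, .d, .h, .g, .f, .e, .d, .c, .b], .a),
  (1739, [.h, .c, .d, .e, .b, .c, .d, .h, .i, .h, .f, .c, .d, .e, .b, .c, .d, .h, .g, .f, .e, .d, .c, .b], .a),
  (1781, [.h, .c, .d, .e, .b, .c, .d, .h, .i, .h, .e, .f, .d, .e, .b, .c, .d, .h, .g, .f, .e, .d, .c, .b], .a),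
  (2155, [.d, .h, .c, .d, .e, .a, .b, .c, .d, .h, .i, .e, .f, .c, .d, .e, .b, .c, .d, .h, .g, .f, .e, .d, .c, .b], .a),
  (2188, [.d, .h, .c, .d, .e, .a, .b, .c, .d, .h, .i, .h, .f, .c, .d, .e, .b, .c, .d, .h, .g, .f, .e, .d, .c, .b], .a),
  (2894, [.h, .i, .d, .h, .b, .c, .d, .e, .a, .b, .c, .d, .h, .i, .e, .f, .c, .d, .e, .b, .c, .d, .h, .g, .f, .e, .d, .c, .b], .a),
  (2908, [.h, .i, .e, .d, .h, .c, .d, .e, .a, .b, .c, .d, .h, .i, .e, .f, .c, .d, .e, .b, .c, .d, .h, .g, .f, .e, .d, .c, .b], .a)]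

/-- the points of the block 1 with their words -/
def LB1 : List (ℕ × List Gen × Gen) := [
  (28, [.f, .e, .d], .c),
  (51, [.i, .h, .f, .e, .d, .c], .b),
  (58, [.i, .d, .h, .f, .e, .d, .c, .b], .a),
  (120, [.g], .f),
  (161, [.i, .e, .c, .d, .h, .g, .f, .e, .d, .c], .b),
  (177, [.i, .d, .e, .c, .d, .h, .g, .f, .e, .d, .c, .b], .a),
  (272, [.i, .h, .d, .e, .b, .c, .d, .h, .g, .f, .e, .d, .c, .b], .a),
  (473, [.i, .e, .d, .h, .c, .d, .e, .b, .c, .d, .h, .f, .e, .d, .c, .b], .a),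
  (1627, [.h, .f, .c, .d, .e, .b, .c, .d, .h, .i, .f, .d, .e, .b, .c, .d, .h, .g, .f, .e, .d, .c, .b], .a),
  (1932, [.h, .f, .c, .d, .e, .b, .c, .d, .h, .i, .e, .f, .c, .d, .e, .b, .c, .d, .h, .g, .f, .e, .d, .c, .b], .a),
  (1955, [.h, .f, .c, .d, .e, .b, .c, .d, .h, .i, .h, .f, .c, .d, .e, .b, .c, .d, .h, .g, .f, .e, .d, .c, .b], .a),
  (2003, [.h, .f, .c, .d, .e, .b, .c, .d, .h, .i, .h, .e, .f, .d, .e, .b, .c, .d, .h, .g, .f, .e, .d, .c, .b], .a),
  (2399, [.d, .h, .f, .c, .d, .e, .a, .b, .c, .d, .h, .i, .e, .f, .c, .d, .e, .b, .c, .d, .h, .g, .f, .e, .d, .c, .b], .a),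
  (2442, [.d, .h, .f, .c, .d, .e, .a, .b, .c, .d, .h, .i, .h, .f, .c, .d, .e, .b, .c, .d, .h, .g, .f, .e, .d, .c, .b], .a),
  (3119, [.h, .i, .d, .h, .f, .b, .c, .d, .e, .a, .b, .c, .d, .h, .i, .e, .f, .c, .d, .e, .b, .c, .d, .h, .g, .f, .e, .d, .c, .b], .a),
  (3135, [.h, .i, .f, .e, .d, .h, .c, .d, .e, .a, .b, .c, .d, .h, .i, .e, .f, .c, .d, .e, .b, .c, .d, .h, .g, .f, .e, .d, .c, .b], .a)]

/-- the points of the block 2 with their words -/
def LB2 : List (ℕ × List Gen × Gen) := [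
  (45, [.g, .f, .e, .d], .c),
  (72, [.i, .h, .g, .f, .e, .d, .c], .b),
  (80, [.i, .d, .h, .g, .f, .e, .d, .c, .b], .a),
  (88, [], .f),
  (132, [.i, .e, .c, .d, .h, .f, .e, .d, .c], .b),
  (148, [.i, .d, .e, .c, .d, .h, .f, .e, .d, .c, .b], .a),
  (232, [.i, .h, .d, .e, .b, .c, .d, .h, .f, .e, .d, .c, .b], .a),
  (545, [.i, .e, .d, .h, .c, .d, .e, .b, .c, .d, .h, .g, .f, .e, .d, .c, .b], .a),
  (1842, [.h, .g, .f, .c, .d, .e, .b, .c, .d, .h, .i, .f, .d, .e, .b, .c, .d, .h, .g, .f, .e, .d, .c, .b], .a),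
  (1878, [.c, .d, .h, .e, .f, .d, .e, .b, .c, .d, .h, .i, .f, .e, .b, .c, .d, .h, .g, .f, .e, .d, .c, .b], .a),
  (2164, [.h, .g, .f, .c, .d, .e, .b, .c, .d, .h, .i, .e, .f, .c, .d, .e, .b, .c, .d, .h, .g, .f, .e, .d, .c, .b], .a),
  (2249, [.h, .g, .f, .c, .d, .e, .b, .c, .d, .h, .i, .h, .e, .f, .d, .e, .b, .c, .d, .h, .g, .f, .e, .d, .c, .b], .a),
  (2340, [.c, .d, .h, .e, .f, .c, .d, .e, .a, .b, .c, .d, .h, .i, .f, .e, .b, .c, .d, .h, .g, .f, .e, .d, .c, .b], .a),
  (2622, [.c, .d, .h, .e, .f, .d, .e, .b, .c, .d, .h, .i, .d, .e, .f, .c, .d, .e, .b, .c, .d, .h, .g, .f, .e, .d, .c, .b], .a),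
  (3079, [.h, .i, .b, .c, .d, .h, .e, .f, .c, .d, .e, .a, .b, .c, .d, .h, .i, .f, .e, .b, .c, .d, .h, .g, .f, .e, .d, .c, .b], .a),
  (3278, [.h, .i, .b, .c, .d, .h, .e, .f, .d, .e, .b, .c, .d, .h, .i, .d, .e, .f, .c, .d, .e, .b, .c, .d, .h, .g, .f, .e, .d, .c, .b], .a)]

/-- the points of the hexad -/
def Pf : Fin 6 → ℕ := ![3, 7, 30, 342, 507, 353]

/-- the points of the hexad -/
def PP : List ℕ := [3, 7, 30, 342, 507, 353]

/-- the points of the blocks -/
def PB : Fin 3 → List ℕ := ![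
  [17, 34, 39, 154, 202, 222, 343, 392, 1429, 1722, 1739, 1781, 2155, 2188, 2894, 2908],
  [28, 51, 58, 120, 161, 177, 272, 473, 1627, 1932, 1955, 2003, 2399, 2442, 3119, 3135],
  [45, 72, 80, 88, 132, 148, 232, 545, 1842, 1878, 2164, 2249, 2340, 2622, 3079, 3278]]

/-- the words of the blocks -/
def LB : Fin 3 → List (ℕ × List Gen × Gen) := ![LB0, LB1, LB2]

/-- the word of the element of order three -/
def wy : List Gen := [.a, .d, .g, .b, .i, .h, .i, .f]
/-- the word of the element interchanging the halves of the hexad -/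
def wg : List Gen := [.b, .e, .d, .f, .e, .g, .f, .i, .h, .d, .c, .b, .a, .e, .d, .c, .b, .f, .h, .d, .e, .i, .c, .d, .h, .d, .e, .f, .g, .c, .d, .e, .f, .b, .c, .d, .e, .a, .b, .c, .d, .h, .d, .c]
/-- the word of a transposition in block 0 -/
def wt : List Gen := [.g]

/-- the mask of a list -/
def maskL : List ℕ → ℕ
  | [] => 0
  | q :: l => Nat.lor (Nat.shiftLeft 1 q) (maskL l)

theorem testBit_maskL (l : List ℕ) (r : ℕ) : (maskL l).testBit r = true ↔ r ∈ l := by
  induction l with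
  | nil => simp [maskL]
  | cons q l ih =>
    show ((1 <<< q) ||| maskL l).testBit r = true ↔ _
    rw [Nat.testBit_or, Bool.or_eq_true, ih, Nat.testBit_shiftLeft, List.mem_cons]
    constructor
    · rintro (h | h)
      · left
        rw [Bool.and_eq_true, decide_eq_true_eq] at h
        have h2 := h.2
        rw [Nat.testBit_one_eq_true_iff_self_eq_zero] at h2
        omega
      · exact Or.inr h
    · rintro (rfl | h)
      · left; simp
      · exact Or.inr h

/-- all the points -/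
def PA : List ℕ := PP ++ (PB 0 ++ (PB 1 ++ PB 2))

/-- the points of the list have the words, and the points of `M` commuting with them are those of `S` -/
noncomputable def chk (M S : ℕ) (l : List (ℕ × List Gen × Gen)) : Bool :=
  List.rec (motive := fun _ => Bool) true
    (fun c _ ih => and (and (Nat.beq (twp c.2) c.1) (Nat.beq (Nat.land (cmk c.2) M) S)) ih) l

theorem chk_spec {M S : ℕ} {l : List (ℕ × List Gen × Gen)} (h : chk M S l = true) :
    ∀ c ∈ l, twp c.2 = c.1 ∧ cmk c.2 &&& M = S := by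
  induction l with
  | nil => intro c hc; exact absurd hc (by simp)
  | cons c l ih =>
    have h' : and (and (Nat.beq (twp c.2) c.1) (Nat.beq (Nat.land (cmk c.2) M) S)) (chk M S l) = true := h
    rw [Bool.and_eq_true, Bool.and_eq_true] at h'
    intro x hx
    rcases List.mem_cons.1 hx with rfl | hx
    · exact ⟨Nat.eq_of_beq_eq_true h'.1.1, Nat.eq_of_beq_eq_true h'.1.2⟩
    · exact ih h'.2 x hx

theorem chkP : chk (maskL PA) (maskL PA) LP = true := by decide +kernel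
set_option Elab.async false in
theorem chkB0 : chk (maskL PA) (maskL (PP ++ PB 0)) LB0 = true := by (rewrite [show @Cfsg.Agent.H835.HexChk.chk = delta% @Cfsg.Agent.H835.HexChk.chk from by delta Cfsg.Agent.H835.HexChk.chk; rfl, show @Cfsg.Agent.H834.cmk = delta% @Cfsg.Agent.H834.cmk from by delta Cfsg.Agent.H834.cmk; rfl, show @Cfsg.Agent.H834.twp = delta% @Cfsg.Agent.H834.twp from by delta Cfsg.Agent.H834.twp; rfl, Cfsg.Agent.Lib.PermNetFast.ptWord_fast, Cfsg.Agent.Lib.PermNetFast.appWord_fast]; decide +kernel)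
set_option Elab.async false in
theorem chkB1 : chk (maskL PA) (maskL (PP ++ PB 1)) LB1 = true := by (rewrite [show @Cfsg.Agent.H835.HexChk.chk = delta% @Cfsg.Agent.H835.HexChk.chk from by delta Cfsg.Agent.H835.HexChk.chk; rfl, show @Cfsg.Agent.H834.cmk = delta% @Cfsg.Agent.H834.cmk from by delta Cfsg.Agent.H834.cmk; rfl, show @Cfsg.Agent.H834.fixm = delta% @Cfsg.Agent.H834.fixm from by delta Cfsg.Agent.H834.fixm; rfl, show @Cfsg.Agent.H834.twp = delta% @Cfsg.Agent.H834.twp from by delta Cfsg.Agent.H834.twp; rfl, Cfsg.Agent.Lib.PermNetFast.ptWord_fast, Cfsg.Agent.Lib.PermNetFast.moved_fast, Cfsg.Agent.Lib.PermNetFast.appWord_fast]; decide +kernel)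
set_option Elab.async false in
theorem chkB2 : chk (maskL PA) (maskL (PP ++ PB 2)) LB2 = true := by (rewrite [show @Cfsg.Agent.H835.HexChk.chk = delta% @Cfsg.Agent.H835.HexChk.chk from by delta Cfsg.Agent.H835.HexChk.chk; rfl, show @Cfsg.Agent.H834.cmk = delta% @Cfsg.Agent.H834.cmk from by delta Cfsg.Agent.H834.cmk; rfl, show @Cfsg.Agent.H834.fixm = delta% @Cfsg.Agent.H834.fixm from by delta Cfsg.Agent.H834.fixm; rfl, show @Cfsg.Agent.H834.twp = delta% @Cfsg.Agent.H834.twp from by delta Cfsg.Agent.H834.twp; rfl, Cfsg.Agent.Lib.PermNetFast.ptWord_fast, Cfsg.Agent.Lib.PermNetFast.moved_fast, Cfsg.Agent.Lib.PermNetFast.appWord_fast]; decide +kernel)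

theorem chkI : Nat.beq (interB [([.c, .b], .a), ([.d, .c], .b), ([.i, .h, .d], .c)] full) (maskL PA) = true := by
  decide +kernel

theorem PP_sub : ∀ q ∈ PP, q ∈ PA := by decide
theorem PB_sub : ∀ j, ∀ q ∈ PB j, q ∈ PA := by decide +kernel
theorem PA_lt : ∀ q ∈ PA, q < 3510 := by decide
theorem Pf_mem : ∀ i, Pf i ∈ PP := by decide
theorem Pf_lt : ∀ i, Pf i < 3510 := by decide
theorem Pf_inj : ∀ i j, Pf i = Pf j → i = j := by decide
theorem PP_ex : ∀ q ∈ PP, ∃ i, q = Pf i := by decide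
theorem LP_ex : ∀ q ∈ PP, ∃ c ∈ LP, c.1 = q := by decide
theorem LB_ex : ∀ j, ∀ q ∈ PB j, ∃ c ∈ LB j, c.1 = q := by decide +kernel
theorem PB_card : ∀ j, (PB j).toFinset.card = 16 := by decide +kernel
theorem PB_iff : ∀ i j, ∀ r ∈ PB j, (r ∈ PP ++ PB i ↔ i = j) := by decide +kernel

theorem chkB : ∀ j, chk (maskL PA) (maskL (PP ++ PB j)) (LB j) = true := by
  intro j
  fin_cases j
  · exact chkB0
  · exact chkB1
  · exact chkB2

section model

variable {G : Type*} [Group G] {D : Set G} (m : Model G D)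

/-- a block -/
def Bk (j : Fin 3) : Set G := {x | ∃ q ∈ PB j, x = m.t q}

theorem comm_of_chk {M S : ℕ} {l : List (ℕ × List Gen × Gen)} (h : chk M S l = true) {c : ℕ × List Gen × Gen}
    (hc : c ∈ l) (hc' : c.1 < 3510) {r : ℕ} (hr : r < 3510) (hM : M.testBit r = true) :
    m.t c.1 * m.t r = m.t r * m.t c.1 ↔ S.testBit r = true := by
  obtain ⟨h1, h2⟩ := chk_spec h c hc
  rw [← m.fix_iff hr, ← h2, Nat.testBit_and, hM, Bool.and_true, m.testBit_cmk hr, h1]

theorem comm_P {q r : ℕ} (hq : q ∈ PP) (hr : r ∈ PA) : m.t q * m.t r = m.t r * m.t q := by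
  obtain ⟨c, hc, rfl⟩ := LP_ex q hq
  rw [comm_of_chk m chkP hc (PA_lt _ (PP_sub _ hq)) (PA_lt _ hr) ((testBit_maskL _ _).2 hr)]
  exact (testBit_maskL _ _).2 hr

theorem comm_B {i j : Fin 3} {q r : ℕ} (hq : q ∈ PB i) (hr : r ∈ PB j) :
    m.t q * m.t r = m.t r * m.t q ↔ i = j := by
  obtain ⟨c, hc, rfl⟩ := LB_ex i q hq
  rw [comm_of_chk m (chkB i) hc (PA_lt _ (PB_sub _ _ hq)) (PA_lt _ (PB_sub _ _ hr))
    ((testBit_maskL _ _).2 (PB_sub _ _ hr)), testBit_maskL]
  exact PB_iff i j r hr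

theorem mem_PA {q : ℕ} (hq : q < 3510) (h0 : m.t 3 * m.t q = m.t q * m.t 3) (h1 : m.t 7 * m.t q = m.t q * m.t 7)
    (h2 : m.t 30 * m.t q = m.t q * m.t 30) : q ∈ PA := by
  rw [← testBit_maskL, ← Nat.eq_of_beq_eq_true chkI, testBit_interB]
  refine ⟨by rw [testBit_full]; exact decide_eq_true hq, ?_⟩
  intro c hc
  rw [m.testBit_cmk hq]
  have e3 : twp ([.c, .b], .a) = 3 := (chk_spec chkP (3, [.c, .b], .a) (by decide)).1
  have e7 : twp ([.d, .c], .b) = 7 := (chk_spec chkP (7, [.d, .c], .b) (by decide)).1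
  have e30 : twp ([.i, .h, .d], .c) = 30 := (chk_spec chkP (30, [.i, .h, .d], .c) (by decide)).1
  simp only [List.mem_cons, List.not_mem_nil, or_false] at hc
  rcases hc with rfl | rfl | rfl
  · rw [e3, m.fix_iff hq]; exact h0
  · rw [e7, m.fix_iff hq]; exact h1
  · rw [e30, m.fix_iff hq]; exact h2

/-- **the hexad** -/
theorem hexd : Hexd D (fun i => m.t (Pf i)) (Bk m) where
  pT i := m.t_mem (Pf_lt i)
  pinj i j h := Pf_inj i j (m.t_inj (Pf_lt i) (Pf_lt j) h)
  pp i j := comm_P m (Pf_mem i) (PP_sub _ (Pf_mem j))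
  BT := by
    rintro j _ ⟨q, hq, rfl⟩
    exact m.t_mem (PA_lt _ (PB_sub _ _ hq))
  Bcard := by
    intro j
    have h : Bk m j = m.t '' (↑(PB j).toFinset : Set ℕ) := by
      ext x
      constructor
      · rintro ⟨q, hq, rfl⟩
        exact ⟨q, by simpa using hq, rfl⟩
      · rintro ⟨q, hq, rfl⟩
        exact ⟨q, by simpa using hq, rfl⟩
    rw [h, Set.ncard_image_of_injOn, Set.ncard_coe_finset, PB_card]
    intro q hq r hr hqr
    have hq' : q ∈ PB j := by simpa using hq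
    have hr' : r ∈ PB j := by simpa using hr
    exact m.t_inj (PA_lt _ (PB_sub _ _ hq')) (PA_lt _ (PB_sub _ _ hr')) hqr
  pB := by
    rintro i j _ ⟨q, hq, rfl⟩
    exact comm_P m (Pf_mem i) (PB_sub _ _ hq)
  BB := by
    rintro i j _ ⟨q, hq, rfl⟩ _ ⟨r, hr, rfl⟩
    exact comm_B m hq hr
  all := by
    intro t ht h0 h1 h2
    obtain ⟨q, hq, rfl⟩ := m.mem_iff.1 ht
    have h3 := mem_PA m hq h0 h1 h2
    unfold PA at h3
    rw [List.mem_append, List.mem_append, List.mem_append] at h3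
    rcases h3 with h3 | h3 | h3 | h3
    · left
      obtain ⟨i, rfl⟩ := PP_ex q h3
      exact ⟨i, rfl⟩
    · exact Or.inr ⟨0, q, h3, rfl⟩
    · exact Or.inr ⟨1, q, h3, rfl⟩
    · exact Or.inr ⟨2, q, h3, rfl⟩

/-- the word `w` maps the points of a list into a list -/
noncomputable def mpB (w : List Gen) (l l' : List ℕ) : Bool :=
  List.rec (motive := fun _ => Bool) true (fun q _ ih => and (Nat.testBit (maskL l') (ptWord (nw w) q)) ih) l

theorem mpB_spec {w : List Gen} {l l' : List ℕ} (h : mpB w l l' = true) : ∀ q ∈ l, m.φ (m.wd w) q ∈ l' := by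
  induction l with
  | nil => intro c hc; exact absurd hc (by simp)
  | cons c l ih =>
    have h' : and (Nat.testBit (maskL l') (ptWord (nw w) c)) (mpB w l l') = true := h
    rw [Bool.and_eq_true] at h'
    intro x hx
    rcases List.mem_cons.1 hx with rfl | hx
    · rw [m.φ_wd_apply]
      exact (testBit_maskL _ _).1 h'.1
    · exact ih h'.2 x hx

theorem pat_of {w : List Gen} {q : Equiv.Perm (Fin 6) × Equiv.Perm (Fin 3)}
    (h : ∀ i, Nat.beq (ptWord (nw w) (Pf i)) (Pf (q.1 i)) = true) (h' : ∀ j, mpB w (PB j) (PB (q.2 j)) = true) :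
    Pat (fun i => m.t (Pf i)) (Bk m) (m.wd w) q := by
  refine ⟨fun i => ?_, ?_⟩
  · show m.wd w * m.t (Pf i) * (m.wd w)⁻¹ = m.t (Pf (q.1 i))
    rw [m.conj_t _ (Pf_lt i), m.φ_wd_apply, Nat.eq_of_beq_eq_true (h i)]
  · rintro j _ ⟨r, hr, rfl⟩
    rw [m.conj_t _ (PA_lt _ (PB_sub _ _ hr))]
    exact ⟨_, mpB_spec m (h' j) r hr, rfl⟩

set_option Elab.async false in
theorem patY : Pat (fun i => m.t (Pf i)) (Bk m) (m.wd wy) (S1, b0) := by
  apply pat_of
  · intro i; (revert i; decide +kernel)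
  · intro j; (revert j; (rewrite [show @Cfsg.Agent.H835.HexChk.mpB = delta% @Cfsg.Agent.H835.HexChk.mpB from by delta Cfsg.Agent.H835.HexChk.mpB; rfl, Cfsg.Agent.Lib.PermNetFast.ptWord_fast]; decide +kernel))

set_option Elab.async false in
theorem patG : Pat (fun i => m.t (Pf i)) (Bk m) (m.wd wg) (sx, 1) := by
  apply pat_of
  · intro i; (revert i; decide +kernel)
  · intro j; (revert j; (rewrite [show @Cfsg.Agent.H835.HexChk.mpB = delta% @Cfsg.Agent.H835.HexChk.mpB from by delta Cfsg.Agent.H835.HexChk.mpB; rfl, Cfsg.Agent.Lib.PermNetFast.ptWord_fast]; decide +kernel))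

theorem patT : Pat (fun i => m.t (Pf i)) (Bk m) (m.wd wt) (1, tx) := by
  apply pat_of
  · intro i; fin_cases i <;> decide +kernel
  · intro j; fin_cases j <;> decide +kernel

theorem chkY3 : Nat.beq (fixm (wy ++ wy ++ wy)) full = true := by decide +kernel

theorem chkY : Nat.beq (fixm wy) 0 = true := by decide +kernel

theorem cube_Y : (m.wd wy) ^ 3 = 1 := by
  apply m.eq_one_of_fix
  intro p hp
  have h : (m.wd wy) ^ 3 = m.wd (wy ++ wy ++ wy) := by
    rw [m.wd_append, m.wd_append, pow_succ, pow_two]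
  rw [h, ← m.testBit_fixm hp, Nat.eq_of_beq_eq_true chkY3, testBit_full]
  exact decide_eq_true hp

theorem fix_Y {t : G} (ht : t ∈ D) : m.wd wy * t ≠ t * m.wd wy := by
  obtain ⟨p, hp, rfl⟩ := m.mem_iff.1 ht
  rw [Ne, m.comm_iff _ hp, ← m.testBit_fixm hp, Nat.eq_of_beq_eq_true chkY]
  simp

end model

end Cfsg.Agent.H835.HexChk
end

-- part: H835/HexMain
section
/-!
# `Fi22`: the subgroups of order three commuting with no transposition are conjugate (helper835)
-/

set_option autoImplicit false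
set_option linter.unusedSectionVars false

namespace Cfsg.Agent.H835.HexMain

open Cfsg Cfsg.Agent.LThreeFi22 Cfsg.Agent.H836 Cfsg.Agent.H834 Cfsg.Agent.H835.Hex Cfsg.Agent.H835.HexChk Subgroup
open Cfsg.Agent.KFacts.FiTT (TK)
open Cfsg.Agent.R01.FiFusion (Tri)

universe v

variable {K : Type v} [Group K] (e : K ≃* Spor.Fi22)

theorem map_conj_zpowers (g y : K) : (zpowers y).map (MulAut.conj g).toMonoidHom = zpowers (g * y * g⁻¹) := by
  rw [MonoidHom.map_zpowers]
  rfl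

theorem map_map_conj (g h : K) (X : Subgroup K) :
    (X.map (MulAut.conj g).toMonoidHom).map (MulAut.conj h).toMonoidHom = X.map (MulAut.conj (h * g)).toMonoidHom := by
  rw [map_map]
  congr 1
  ext z
  show h * (g * z * g⁻¹) * h⁻¹ = h * g * z * (h * g)⁻¹
  group

/-- an element of order three without fixed transposition is conjugate to one with a pattern -/
theorem exists_pat_conj (m : Model K (TK e)) {y : K} (hy : y ^ 3 = 1) (hF : ∀ t ∈ TK e, y * t ≠ t * y) :
    ∃ g q, Pat (fun i => m.t (Pf i)) (Bk m) (g * y * g⁻¹) q ∧ q.1 0 = 1 ∧ q.1 1 = 2 ∧ q.1 2 = 0 := by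
  have I := inv_of_iso e
  have hfin := I.ctx.finite
  have H := hexd m
  obtain ⟨a, ha, h | ⟨h1, h2⟩⟩ := Hex.three e hy
  · exact absurd h (hF a ha)
  set b := y * a * y⁻¹ with hb
  set c := y * b * y⁻¹ with hc
  have hbT : b ∈ TK e := I.ctx.conj a ha y
  have hcT : c ∈ TK e := I.ctx.conj b hbT y
  have hca : y * c * y⁻¹ = a := by
    rw [hc, hb]
    calc y * (y * (y * a * y⁻¹) * y⁻¹) * y⁻¹ = y ^ 3 * a * (y ^ 3)⁻¹ := by rw [pow_succ, pow_two]; group
      _ = a := by rw [hy]; group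
  have hbc : b * c = c * b := by
    rw [hc]
    conv_lhs => rw [hb]
    conv_rhs => rw [hb]
    exact (conj_comm_iff y a (y * a * y⁻¹)).2 h2
  have hca' : c * a = a * c := by
    rw [← hca]
    nth_rw 1 [hc]
    nth_rw 3 [hc]
    exact (conj_comm_iff y b c).2 hbc
  have nbc : b ≠ c := by
    intro h
    apply h1
    have : y * a * y⁻¹ = y * b * y⁻¹ := by rw [← hb, ← hc]; exact h
    exact mul_left_cancel (mul_right_cancel this)
  have nca : a ≠ c := by
    intro h
    apply h1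
    rw [← hca, ← h]
  have t1 : Tri (TK e) a b c := ⟨ha, hbT, hcT, h1, nca, nbc, h2, hca'.symm, hbc⟩
  have t2 : Tri (TK e) (m.t (Pf 0)) (m.t (Pf 1)) (m.t (Pf 2)) :=
    ⟨H.pT 0, H.pT 1, H.pT 2, fun h => absurd (H.pinj h) (by decide), fun h => absurd (H.pinj h) (by decide),
      fun h => absurd (H.pinj h) (by decide), H.pp 0 1, H.pp 0 2, H.pp 1 2⟩
  obtain ⟨g, ga, gb, gc⟩ := I.facts.tri a b c _ _ _ t1 t2
  have e0 : g * y * g⁻¹ * m.t (Pf 0) * (g * y * g⁻¹)⁻¹ = m.t (Pf 1) := by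
    rw [← ga, ← gb, hb]
    group
  have e1 : g * y * g⁻¹ * m.t (Pf 1) * (g * y * g⁻¹)⁻¹ = m.t (Pf 2) := by
    rw [← gb, ← gc, hc]
    group
  have e2 : g * y * g⁻¹ * m.t (Pf 2) * (g * y * g⁻¹)⁻¹ = m.t (Pf 0) := by
    rw [← gc, ← ga, ← hca]
    group
  obtain ⟨q, hq⟩ := H.exists_pat (y := g * y * g⁻¹) (by
    intro t
    have f : ∀ i j : Fin 6, g * y * g⁻¹ * m.t (Pf i) * (g * y * g⁻¹)⁻¹ = m.t (Pf j) →
        (m.t (Pf j) * (g * y * g⁻¹ * t * (g * y * g⁻¹)⁻¹) = g * y * g⁻¹ * t * (g * y * g⁻¹)⁻¹ * m.t (Pf j) ↔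
          m.t (Pf i) * t = t * m.t (Pf i)) := by
      intro i j hij
      rw [← hij, conj_comm_iff]
    have f0 := f 0 1 e0
    have f1 := f 1 2 e1
    have f2 := f 2 0 e2
    constructor
    · rintro ⟨k1, k2, k3, k4⟩
      exact ⟨I.ctx.conj t k1 _, f2.2 k4, f0.2 k2, f1.2 k3⟩
    · rintro ⟨k1, k2, k3, k4⟩
      exact ⟨(I.ctx.conj_iff _).1 k1, f0.1 k3, f1.1 k4, f2.1 k2⟩)
  refine ⟨g, q, hq, ?_, ?_, ?_⟩
  · exact H.pinj ((hq.hp 0).symm.trans e0)
  · exact H.pinj ((hq.hp 1).symm.trans e1)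
  · exact H.pinj ((hq.hp 2).symm.trans e2)

/-- the pattern can be taken to be `(S1, b0)` -/
theorem exists_pat_std (m : Model K (TK e)) {y : K} (hy : y ^ 3 = 1) (hF : ∀ t ∈ TK e, y * t ≠ t * y) :
    ∃ g, Pat (fun i => m.t (Pf i)) (Bk m) (g * y * g⁻¹) (S1, b0) := by
  have I := inv_of_iso e
  have hfin := I.ctx.finite
  have H := hexd m
  obtain ⟨g, q, hq, q0, q1, q2⟩ := exists_pat_conj e m hy hF
  have hF' : ∀ t ∈ TK e, g * y * g⁻¹ * t ≠ t * (g * y * g⁻¹) := by
    intro t ht h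
    apply hF (g⁻¹ * t * g⁻¹⁻¹) (I.ctx.conj t ht _)
    have h1 := (conj_comm_iff g⁻¹ (g * y * g⁻¹) t).2 h
    have h2 : g⁻¹ * (g * y * g⁻¹) * g⁻¹⁻¹ = y := by group
    rwa [h2] at h1
  have hy' : (g * y * g⁻¹) ^ 3 = 1 := by
    rw [conj_pow, hy]; group
  have n1 : ∀ i, q.1 i ≠ i := by
    intro i h
    have h1 := hq.hp i
    rw [h] at h1
    exact hF' _ (H.pT i) (mul_inv_eq_iff_eq_mul.1 h1)
  have n2 : ∀ j, q.2 j ≠ j := by
    intro j h
    have h1 := fix_modEq (r := 3) Nat.prime_three hy' (S := Bk m j) (fun s hs => by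
      have := hq.hB j s hs
      rwa [h] at this)
    have h2 : {s | s ∈ Bk m j ∧ g * y * g⁻¹ * s = s * (g * y * g⁻¹)} = ∅ := by
      ext s
      exact ⟨fun hs => hF' s (H.BT j s hs.1) hs.2, fun hs => absurd hs (Set.notMem_empty s)⟩
    rw [h2, H.Bcard, Set.ncard_empty] at h1
    revert h1
    decide
  have step : ∀ {g q k r}, Pat (fun i => m.t (Pf i)) (Bk m) (g * y * g⁻¹) q → Pat (fun i => m.t (Pf i)) (Bk m) k r →
      Pat (fun i => m.t (Pf i)) (Bk m) (k * g * y * (k * g)⁻¹) (r * q * r⁻¹) := by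
    intro g q k r h1 h2
    have h3 := (h2.mul h1).mul (H.inv h2)
    have h4 : k * (g * y * g⁻¹) * k⁻¹ = k * g * y * (k * g)⁻¹ := by group
    rwa [h4] at h3
  have hq' : q = (q.1, q.2) := rfl
  have fin : ∀ {g b}, Pat (fun i => m.t (Pf i)) (Bk m) (g * y * g⁻¹) (S1, b) → b = b0 ∨ b = b1 →
      ∃ g, Pat (fun i => m.t (Pf i)) (Bk m) (g * y * g⁻¹) (S1, b0) := by
    rintro g b h1 (rfl | rfl)
    · exact ⟨g, h1⟩
    · refine ⟨m.wd wt * g, ?_⟩
      have h2 := step h1 (patT m)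
      rwa [show ((1, tx) : Equiv.Perm (Fin 6) × Equiv.Perm (Fin 3)) * (S1, b1) * (1, tx)⁻¹ = (S1, b0) by decide] at h2
  rcases perm_cases q.1 q0 q1 q2 n1 with h | h
  · rw [hq', h] at hq
    exact fin hq (block_cases q.2 n2)
  · rw [hq', h] at hq
    have h2 := step hq (patG m)
    have h3 : ((sx, 1) : Equiv.Perm (Fin 6) × Equiv.Perm (Fin 3)) * (S2, q.2) * (sx, 1)⁻¹ = (S1, q.2) := by
      refine Prod.ext ?_ ?_
      · show sx * S2 * sx⁻¹ = S1
        decide
      · show 1 * q.2 * 1⁻¹ = q.2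
        group
    rw [h3] at h2
    exact fin h2 (block_cases q.2 n2)

/-- **the subgroups of order three commuting with no transposition are conjugate** -/
theorem free_conj (m : Model K (TK e)) {y : K} (hy : y ^ 3 = 1) (hF : ∀ t ∈ TK e, y * t ≠ t * y) :
    ∃ g, (zpowers y).map (MulAut.conj g).toMonoidHom = zpowers (m.wd wy) := by
  obtain ⟨g, hg⟩ := exists_pat_std e m hy hF
  have hy' : (g * y * g⁻¹) ^ 3 = 1 := by
    rw [conj_pow, hy]; group
  obtain ⟨k, hk⟩ := conj_of_pat e (hexd m) (q := (S1, b0)) (by decide) rfl rfl hy' (cube_Y m) hg (patY m)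
  refine ⟨k * g, ?_⟩
  rw [← map_map_conj, map_conj_zpowers, hk]

end Cfsg.Agent.H835.HexMain
end

private theorem dce_cb700e70773e : _root_.True := by
  try have : _root_.True := by simp only [_root_.Cfsg.Agent.H835.HexChk.maskL.eq_2]
  try have : _root_.True := by simp only [_root_.Cfsg.Agent.H835.Eig.col.eq_1]
  try have : _root_.True := by simp only [_root_.Cfsg.Agent.H835.HexChk.maskL.eq_def]
  try have : _root_.True := by simp only [_root_.Cfsg.Agent.H835.Eig.lam.eq_1]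
  try have : _root_.True := by simp only [_root_.Cfsg.Agent.H835.HexChk.maskL.eq_1]
  exact _root_.True.intro
end

-- part: H835/ClsThree
section
set_option linter.all false
open scoped Cfsg.Agent.FastGrp

/-!
# `Fi22`: the four classes of subgroups of order three (helper835)
-/

set_option autoImplicit false
set_option linter.unusedSectionVars false

namespace Cfsg.Agent.H835.ClsThree

open Cfsg Cfsg.Agent.LThreeFi22 Cfsg.Agent.H836 Cfsg.Agent.H834 Cfsg.Agent.H835.Hex Cfsg.Agent.H835.HexChk Subgroup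
open Cfsg.Agent.H835.HexMain Cfsg.Agent.H835.Types Cfsg.Agent.H835.Kind
open Cfsg.Agent.KFacts.FiTT (TK)

universe v

variable {K : Type v} [Group K] (e : K ≃* Spor.Fi22)

theorem width_conj {T : Set K} (I : Inv K T) (g x : K) :
    Cfsg.commutingWidth (Fx T (g * x * g⁻¹)) = Cfsg.commutingWidth (Fx T x) := by
  have hfin := I.ctx.finite
  have key : ∀ k y t : K, t ∈ Fx T y → k * t * k⁻¹ ∈ Fx T (k * y * k⁻¹) := fun k y t ht =>
    ⟨I.ctx.conj t ht.1 k, (conj_comm_iff k y t).2 ht.2⟩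
  obtain ⟨E0, hE0, hc, hn⟩ := exists_of_commutingWidth (Fx T x)
  apply commutingWidth_eq
  · refine ⟨(MulAut.conj g) '' E0, ?_, ?_, ?_⟩
    · rintro _ ⟨y, hy, rfl⟩
      exact key g x y (hE0 hy)
    · rintro _ ⟨y, hy, rfl⟩ _ ⟨z, hz, rfl⟩
      show Commute _ _
      exact (conj_comm_iff g y z).2 (hc y hy z hz)
    · rw [Set.ncard_image_of_injective _ (MulAut.conj g).injective, hn]
  · intro E hE hEc
    have h1 : ((MulAut.conj g⁻¹) '' E).ncard ≤ Cfsg.commutingWidth (Fx T x) := by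
      apply le_commutingWidth
      · rintro _ ⟨y, hy, rfl⟩
        have h2 := key g⁻¹ _ y (hE hy)
        have h3 : g⁻¹ * (g * x * g⁻¹) * g⁻¹⁻¹ = x := by group
        rw [h3] at h2
        exact h2
      · rintro _ ⟨y, hy, rfl⟩ _ ⟨z, hz, rfl⟩
        exact (conj_comm_iff g⁻¹ y z).2 (hEc y hy z hz)
    rwa [Set.ncard_image_of_injective _ (MulAut.conj g⁻¹).injective] at h1

/-- the width is an invariant of the class of a cyclic subgroup -/
theorem width_of_conj {T : Set K} (I : Inv K T) {x y g : K}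
    (h : (zpowers x).map (MulAut.conj g).toMonoidHom = zpowers y) :
    Cfsg.commutingWidth (Fx T x) = Cfsg.commutingWidth (Fx T y) := by
  rw [map_conj_zpowers] at h
  rw [← width_conj I g x, ← Main.inter_eq, h, Main.inter_eq]

theorem ex_3A {T : Set K} (I : Inv K T) {d : K} (hd : d ∈ T) : ∃ y, Is3A T y ∧ y * d = d * y := by
  obtain ⟨a, ha, b, hb, c, hc, hab, hac, hbc⟩ := I.ctx.mupos
  obtain ⟨g, hg⟩ := I.ctx.trans_one hc hd
  refine ⟨g * a * g⁻¹ * (g * b * g⁻¹), ⟨_, I.ctx.conj a ha g, _, I.ctx.conj b hb g, ?_, rfl⟩, ?_⟩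
  · rw [Ne, conj_comm_iff]
    exact hab
  · have e1 := (conj_comm_iff g a c).2 hac
    have e2 := (conj_comm_iff g b c).2 hbc
    rw [hg] at e1 e2
    calc g * a * g⁻¹ * (g * b * g⁻¹) * d = g * a * g⁻¹ * (g * b * g⁻¹ * d) := by group
      _ = g * a * g⁻¹ * d * (g * b * g⁻¹) := by rw [e2]; group
      _ = d * (g * a * g⁻¹ * (g * b * g⁻¹)) := by rw [e1]; group

theorem pow_3A {T : Set K} (I : Inv K T) {y : K} (hy : Is3A T y) : y ^ 3 = 1 ∧ y ≠ 1 := by
  obtain ⟨a, ha, b, hb, hab, rfl⟩ := hy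
  refine ⟨I.ctx.cube ha hb hab, ?_⟩
  intro h
  apply hab
  have h9 : a = b := by
    rw [eq_inv_of_mul_eq_one_left h, I.ctx.inv hb]
  rw [h9]

theorem card_zp {x : K} (hx : x ^ 3 = 1) (hx1 : x ≠ 1) : Nat.card ↥(zpowers x) = 3 := by
  have := Fact.mk Nat.prime_three
  rw [Nat.card_zpowers]
  exact orderOf_eq_prime hx hx1

/-- **the four classes of subgroups of order three** -/
theorem three_concl : ∃ Y : Fin 4 → Subgroup K, (∀ i, Nat.card (Y i) = 3) ∧
    (∀ i j, (∃ g : K, (Y i).map (MulAut.conj g).toMonoidHom = Y j) → i = j) ∧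
    (∀ X : Subgroup K, Nat.card X = 3 → ∃ i, ∃ g : K, X.map (MulAut.conj g).toMonoidHom = Y i) ∧
    Cfsg.commutingWidth (TK e ∩ (centralizer ((Y 0 : Subgroup K) : Set K) : Set K)) = 6 ∧
    Cfsg.commutingWidth (TK e ∩ (centralizer ((Y 1 : Subgroup K) : Set K) : Set K)) = 4 ∧
    Cfsg.commutingWidth (TK e ∩ (centralizer ((Y 2 : Subgroup K) : Set K) : Set K)) = 3 ∧
    Cfsg.commutingWidth (TK e ∩ (centralizer ((Y 3 : Subgroup K) : Set K) : Set K)) = 0 := by
  have I := inv_of_iso e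
  have hfin := I.ctx.finite
  obtain ⟨m⟩ := Cfsg.Agent.H834.Bridge.model_of_iso e (D := TK e) rfl
  obtain ⟨d, hd, -⟩ := I.ctx.mupos
  obtain ⟨Ty, h1, h2, h3, ⟨x1, hx1⟩, ⟨x2, hx2⟩, h6, h7⟩ := types e hd
  obtain ⟨x0, hx0, hx0d⟩ := ex_3A I hd
  obtain ⟨c0, n0⟩ := pow_3A I hx0
  obtain ⟨c1, n1, k1⟩ := h3 _ _ hx1
  obtain ⟨c2, n2, k2⟩ := h3 _ _ hx2
  obtain ⟨P1, hP1⟩ := h6 _ hx1
  obtain ⟨P2, hP2⟩ := h7 _ hx2
  have w0 := width_three m hx0
  have w1 := width_of_two e c1 n1 ⟨hd, k1⟩ hP1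
  have w2 := width_of_three e c2 n2 ⟨hd, k2⟩ hP2
  have c3 := cube_Y m
  have w3 : Cfsg.commutingWidth (Fx (TK e) (m.wd wy)) = 0 := by
    apply commutingWidth_eq
    · exact ⟨∅, Set.empty_subset _, fun a ha => absurd ha (Set.notMem_empty a), Set.ncard_empty _⟩
    · intro E hE _
      have : E = ∅ := by
        rw [Set.eq_empty_iff_forall_notMem]
        intro t ht
        exact fix_Y m (hE ht).1 (hE ht).2
      rw [this, Set.ncard_empty]
  have n3 : m.wd wy ≠ 1 := by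
    intro h
    apply fix_Y m hd
    rw [h]; simp
  let x : Fin 4 → K := ![x0, x2, x1, m.wd wy]
  let w : Fin 4 → ℕ := ![6, 4, 3, 0]
  have hw : ∀ i, Cfsg.commutingWidth (Fx (TK e) (x i)) = w i := by
    intro i
    fin_cases i
    · exact w0
    · exact w2
    · exact w1
    · exact w3
  have hwi : ∀ i j, w i = w j → i = j := by decide
  refine ⟨fun i => zpowers (x i), ?_, ?_, ?_, ?_, ?_, ?_, ?_⟩
  · intro i
    fin_cases i
    · exact card_zp c0 n0
    · exact card_zp c2 n2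
    · exact card_zp c1 n1
    · exact card_zp c3 n3
  · rintro i j ⟨g, hg⟩
    apply hwi
    rw [← hw, ← hw]
    exact width_of_conj I hg
  · intro X hX
    obtain ⟨y, hy, hy1, -, rfl⟩ := Main.exists_gen Nat.prime_three hX
    by_cases hF : ∃ t ∈ TK e, y * t = t * y
    · obtain ⟨t, ht, hyt⟩ := hF
      obtain ⟨k, hk⟩ := I.ctx.trans_one ht hd
      have a1 : (k * y * k⁻¹) ^ 3 = 1 := by
        rw [conj_pow, hy]; group
      have a2 : k * y * k⁻¹ ≠ 1 := by
        intro h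
        exact hy1 (conj_eq_one_iff.1 h)
      have a3 : k * y * k⁻¹ * d = d * (k * y * k⁻¹) := by
        rw [← hk]
        exact (conj_comm_iff k y t).2 hyt
      obtain ⟨i, hi⟩ := h1 _ a1 a2 a3
      have fin : ∀ z, Ty i z → ∃ g : K, (zpowers y).map (MulAut.conj g).toMonoidHom = zpowers z := by
        intro z hz
        obtain ⟨l, -, hl⟩ := h2 i _ _ hi hz
        refine ⟨l * k, ?_⟩
        rw [← map_map_conj, map_conj_zpowers, map_conj_zpowers, hl]
      -- the type of `x0`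
      obtain ⟨j, hj⟩ := h1 x0 c0 n0 hx0d
      have hj0 : j = 0 := by
        fin_cases j
        · rfl
        · exfalso
          obtain ⟨P, hP⟩ := h6 _ hj
          have := width_of_two e c0 n0 ⟨hd, hx0d⟩ hP
          omega
        · exfalso
          obtain ⟨P, hP⟩ := h7 _ hj
          have := width_of_three e c0 n0 ⟨hd, hx0d⟩ hP
          omega
      rw [hj0] at hj
      fin_cases i
      · obtain ⟨g, hg⟩ := fin x0 hj
        exact ⟨0, g, hg⟩
      · obtain ⟨g, hg⟩ := fin x1 hx1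
        exact ⟨2, g, hg⟩
      · obtain ⟨g, hg⟩ := fin x2 hx2
        exact ⟨1, g, hg⟩
    · obtain ⟨g, hg⟩ := free_conj e m hy (fun t ht h => hF ⟨t, ht, h⟩)
      exact ⟨3, g, hg⟩
  · rw [Main.inter_eq]; exact hw 0
  · rw [Main.inter_eq]; exact hw 1
  · rw [Main.inter_eq]; exact hw 2
  · rw [Main.inter_eq]; exact hw 3

end Cfsg.Agent.H835.ClsThree
end
end
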